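import Cfsg.Agent.H246.Dl.KFix_m3
import Cfsg.Agent.Nodes.LeviDec
import Cfsg.Agent.CharactersDeep.MaxInduced
import Cfsg.Agent.CharactersDeep.ScalarIndex
import Cfsg.Agent.Blocks.Orthogonality
import Cfsg.Agent.FastGrp
import Cfsg.Agent.Prune
set_option linter.all false

section
prune_inst 0x7f00000000000000000000000000000000000000000000000000000000000000000000000000000000000000000000000000000000000000000000000000000000000000000000000000000000000000003ffe7e7ffffffffffffff7ffffffbeffbde3feffff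

section
prune_inst 0x18180000000000000080000000000001c010000

-- part: H53/HC/Rgd
section
set_option linter.all false
open scoped Cfsg.Agent.FastGrp

/-!
# Harish-Chandra induction in groups with a root group datum (hub H5, helper53)

`isIrr_indFun_rep` : Mackey's irreducibility criterion, tested on representatives of the double cosets.

`isIrr_indFun_rgd` : `G` a finite group with a root group datum, `J` a set of nodes, `P = L_J V_J` the parabolic
subgroup, `ψ` an irreducible character of `P` trivial on `V_J` and cuspidal (its sum over the radical `rad J i` of each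
maximal parabolic subgroup of `L_J` is zero). If `ψ ≠ ψ^n` on `L_J` for every representative `n` of an element
`w ∉ W_J` which permutes the simple roots of `J`, then `ψ` induces an irreducible character of `G`.
-/

set_option autoImplicit false

open scoped ComplexConjugate
open Cfsg

namespace Cfsg.Agent.H53.HC

open Cfsg.Agent.OddOrderCharacters.Clifford Cfsg.Agent.Characters

section mackey

variable {G : Type*} [Group G]

theorem ext_conj {T : Subgroup G} {β : T → ℂ} (hβ : IsClassFunction T β) {b : G} (hb : b ∈ T) (z : G) :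
    extendByZero T β (b⁻¹ * z * b) = extendByZero T β z := by
  by_cases hz : z ∈ T
  · rw [ext_apply_mem T β z hz, ext_apply_mem T β _ (mul_mem (mul_mem (inv_mem hb) hz) hb)]
    have := hβ ⟨z, hz⟩ (⟨b, hb⟩ : T)⁻¹
    rw [inv_inv] at this
    exact this
  · rw [ext_apply_not_mem T β z hz, ext_apply_not_mem T β _ (fun h => hz ?_)]
    have := mul_mem (mul_mem hb h) (inv_mem hb)
    simpa [mul_assoc] using this

theorem twist_mul [Finite G] (T : Subgroup G) [Fintype T] {α β : T → ℂ} (hα : IsClassFunction T α)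
    (hβ : IsClassFunction T β) {a b : G} (ha : a ∈ T) (hb : b ∈ T) (y : G) :
    twist T α β (a * y * b) = twist T α β y := by
  classical
  rw [twist_def, twist_def]
  refine Fintype.sum_equiv (MulAut.conj (⟨a, ha⟩ : T)⁻¹).toEquiv _ _ fun t => ?_
  have e1 : α ((MulAut.conj (⟨a, ha⟩ : T)⁻¹).toEquiv t) = α t := by
    exact hα t (⟨a, ha⟩ : T)⁻¹
  have e2 : ((((MulAut.conj (⟨a, ha⟩ : T)⁻¹).toEquiv t : T)) : G) = a⁻¹ * t * a := by
    simp [MulAut.conj_apply]
  rw [e1, e2]
  congr 2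
  have e3 : (a * y * b)⁻¹ * (t : G) * (a * y * b) = b⁻¹ * (y⁻¹ * (a⁻¹ * t * a) * y) * b := by group
  rw [e3, ext_conj hβ hb]

/-- **Mackey's irreducibility criterion** on representatives. -/
theorem isIrr_indFun_rep [Fintype G] (T : Subgroup G) {ψ : T → ℂ} (hψ : IsIrrCharacter T ψ)
    (h : ∀ x : G, x ∉ T → ∃ a ∈ T, ∃ b ∈ T, ∃ y, x = a * y * b ∧
      ∃ (L : Subgroup G) (hL : L ≤ T) (hL' : ∀ l ∈ L, y⁻¹ * l * y ∈ T),
      ∀ [Fintype L], ∑ l : L, ψ ⟨l, hL l.2⟩ * conj (ψ ⟨y⁻¹ * l * y, hL' l l.2⟩) = 0) :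
    IsIrrCharacter G (indFun T ψ) := by
  classical
  have : Fintype T := Fintype.ofFinite T
  have hc := Core.isIrr_isCharacter hψ
  rw [Core.isIrr_iff_classInner_self (Cfsg.Agent.S0148.result T _ hc)]
  rw [classInner_indFun_eq T _ _ (Core.isIrr_isClassFunction hψ)]
  · exact Core.classInner_irr_self hψ
  · intro x hx
    obtain ⟨a, ha, b, hb, y, rfl, L, hL, hL', h0⟩ := h x hx
    have : Fintype L := Fintype.ofFinite L
    rw [twist_mul T (Core.isIrr_isClassFunction hψ) (Core.isIrr_isClassFunction hψ) ha hb]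
    exact twist_eq_zero_of_sub T hc hc y L hL hL' h0

end mackey

section rgd

open CoxeterSystem Cfsg.Agent.ChevalleyStructure.CoxeterGeom Cfsg.Agent.Tits.Roots Cfsg.Agent.Tits.Core
  Cfsg.Agent.Tits.Exchange Cfsg.Agent.Nodes.Reps Cfsg.Agent.Nodes.BNOf Cfsg.Agent.Nodes.StabComb
  Cfsg.Agent.Nodes.Bruhat Cfsg.Agent.Nodes.OppDec Cfsg.Agent.Nodes.LeviDec

variable {I W Y : Type*} [Fintype I] [DecidableEq I] [Group W] [Group Y] {M : CoxeterMatrix I}
  {cs : CoxeterSystem M W} {A : I → I → ℤ} {h : IsCartan M A} {p : ℕ} {T : Subgroup Y} {n : I → Y}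
  {X : (I → ℤ) → Subgroup Y}

/-- the positive roots of `J` whose coefficient at `i` is positive -/
def PosRad (cs : CoxeterSystem M W) (h : IsCartan M A) (J : Set I) (i : I) : Set (I → ℤ) :=
  {x | x ∈ PosJ cs h J ∧ 0 < x i}

/-- the unipotent radical of the maximal parabolic subgroup of `L_J` belonging to `i ∈ J` -/
def rad (cs : CoxeterSystem M W) (h : IsCartan M A) (X : (I → ℤ) → Subgroup Y) (J : Set I) (i : I) : Subgroup Y :=
  RGD.Sup X (PosRad cs h J i)

theorem rad_le_UJ (J : Set I) (i : I) : rad cs h X J i ≤ UJ cs h X J := RGD.Sup_mono fun _ hx => hx.1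

theorem rad_le_LJ (J : Set I) (i : I) : rad cs h X J i ≤ LJ cs h T X J :=
  le_trans (rad_le_UJ J i) (le_trans UJ_le_BJ BJ_le_LJ)

theorem rad_le_PJ (J : Set I) (i : I) : rad cs h X J i ≤ PJ cs h T X J := le_trans (rad_le_LJ J i) LJ_le_PJ

/-- the height as a linear map -/
def htHom : (I → ℤ) →ₗ[ℤ] ℤ where
  toFun x := ht x
  map_add' x y := RGD.ht_add x y
  map_smul' a x := RGD.ht_smul a x

/-- `w` permutes the simple roots of `J` -/
def Perm (cs : CoxeterSystem M W) (h : IsCartan M A) (J : Set I) (w : W) : Prop :=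
  (∀ i ∈ J, ∃ k ∈ J, rep cs h w⁻¹ (sr i) = sr k) ∧ ∀ i ∈ J, ∃ k ∈ J, rep cs h w (sr i) = sr k

theorem eq_sum_sr (x : I → ℤ) : x = ∑ k, x k • sr k := by
  funext j
  simp [Finset.sum_apply, sr, Pi.single_apply]

/-- The image of a nonnegative combination of `J`. -/
theorem rep_nonneg_of_supp {J : Set I} {w : W} (hw : ∀ i ∈ J, 0 ≤ rep cs h w (sr i)) {x : I → ℤ} (h0 : 0 ≤ x)
    (hx : ∀ k, k ∉ J → x k = 0) : 0 ≤ rep cs h w x := by
  rw [eq_sum_sr x, map_sum]
  refine Finset.sum_nonneg fun k _ => ?_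
  rw [map_smul]
  by_cases hk : k ∈ J
  · exact smul_nonneg (h0 k) (hw k hk)
  · rw [hx k hk, zero_smul]

theorem rep_apply_ge {J : Set I} {w : W} (hw : ∀ i ∈ J, 0 ≤ rep cs h w (sr i)) {x : I → ℤ} (h0 : 0 ≤ x)
    (hx : ∀ k, k ∉ J → x k = 0) (i : I) (j : I) :
    x i * rep cs h w (sr i) j ≤ rep cs h w x j := by
  conv_rhs => rw [eq_sum_sr x, map_sum, Finset.sum_apply]
  have h1 : ∀ k ∈ Finset.univ, 0 ≤ rep cs h w (x k • sr k) j := by
    intro k _
    rw [map_smul, Pi.smul_apply, smul_eq_mul]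
    by_cases hk : k ∈ J
    · exact mul_nonneg (h0 k) (hw k hk j)
    · rw [hx k hk, zero_mul]
  have h2 := Finset.single_le_sum h1 (Finset.mem_univ i)
  rwa [map_smul, Pi.smul_apply, smul_eq_mul] at h2

/-- a positive root of height one is simple -/
theorem eq_sr_of_ht {x : I → ℤ} (hx : IsRoot cs h x) (h0 : 0 ≤ x) (h1 : ht x ≤ 1) : ∃ k, x = sr k ∧ 0 < x k := by
  obtain ⟨k, hk⟩ : ∃ k, 0 < x k := by
    by_contra hcon
    push Not at hcon
    exact hx.ne_zero (funext fun i => le_antisymm (hcon i) (h0 i))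
  refine ⟨k, hx.eq_sr h0 k fun j hj => ?_, hk⟩
  have h2 : x k + x j ≤ ht x := by
    unfold ht
    rw [← Finset.sum_pair (Ne.symm hj)]
    exact Finset.sum_le_sum_of_subset_of_nonneg (Finset.subset_univ _) fun i _ _ => h0 i
  have := h0 j
  have h3 : (0 : ℤ) ≤ x j := this
  omega

theorem ht_le_rep {J : Set I} {w : W} (hw : ∀ i ∈ J, 0 ≤ rep cs h w (sr i)) {x : I → ℤ} (h0 : 0 ≤ x)
    (hx : ∀ k, k ∉ J → x k = 0) : ht x ≤ ht (rep cs h w x) := by
  have e1 : ht (rep cs h w x) = ∑ k, x k * ht (rep cs h w (sr k)) := by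
    conv_lhs => rw [eq_sum_sr x, map_sum]
    have : ∀ y : I → ℤ, ht y = Cfsg.Agent.H53.HC.htHom y := fun _ => rfl
    simp only [this, map_sum, map_smul, smul_eq_mul]
  rw [e1]
  unfold ht
  refine Finset.sum_le_sum fun k _ => ?_
  by_cases hk : k ∈ J
  · have h2 : 0 < ht (rep cs h w (sr k)) := sum_pos (hw k hk) ((isRoot_sr cs h k).act w).ne_zero
    have h3 : (0 : ℤ) ≤ x k := h0 k
    unfold ht at h2
    nlinarith
  · rw [hx k hk, zero_mul]

/-- If `w⁻¹` and `w` map the simple roots of `J` to positive roots then either `w` permutes them or some `rad J i` is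
mapped into `V_J` by `w⁻¹`. -/
theorem perm_or [Finite W] {J : Set I} {w : W} (h1 : ∀ i ∈ J, 0 ≤ rep cs h w⁻¹ (sr i)) (h2 : ∀ i ∈ J, 0 ≤ rep cs h w (sr i)) :
    Perm cs h J w ∨ ∃ i ∈ J, ∀ x ∈ PosRad cs h J i, rep cs h w⁻¹ x ∈ NotJ cs h J := by
  by_cases hc : ∀ i ∈ J, ∀ k, k ∉ J → rep cs h w⁻¹ (sr i) k = 0
  · left
    -- the elements preserving the span of `J`
    have hS : ∀ v : W, (∀ i ∈ J, ∀ k, k ∉ J → rep cs h v (sr i) k = 0) → ∀ x : I → ℤ, (∀ k, k ∉ J → x k = 0) →
        ∀ k, k ∉ J → rep cs h v x k = 0 := by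
      intro v hv x hx k hk
      rw [eq_sum_sr x, map_sum, Finset.sum_apply]
      refine Finset.sum_eq_zero fun j _ => ?_
      rw [map_smul, Pi.smul_apply]
      by_cases hj : j ∈ J
      · rw [hv j hj k hk, smul_zero]
      · rw [hx j hj, zero_smul]
    have hpow : ∀ m : ℕ, ∀ x : I → ℤ, (∀ k, k ∉ J → x k = 0) → ∀ k, k ∉ J → rep cs h (w⁻¹ ^ m) x k = 0 := by
      intro m
      induction m with
      | zero =>
        intro x hx k hk
        rw [pow_zero, map_one, Module.End.one_apply]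
        exact hx k hk
      | succ m ih =>
        intro x hx k hk
        rw [pow_succ, rep_mul_apply]
        exact ih _ (hS _ hc x hx) k hk
    have hc' : ∀ i ∈ J, ∀ k, k ∉ J → rep cs h w (sr i) k = 0 := by
      intro i hi k hk
      have h3 : w⁻¹ ^ (orderOf w⁻¹ - 1) = w := by
        have h4 : 0 < orderOf w⁻¹ := orderOf_pos _
        have h5 : w⁻¹ ^ (orderOf w⁻¹ - 1) * w⁻¹ = 1 := by
          rw [← pow_succ, Nat.sub_add_cancel h4, pow_orderOf_eq_one]
        rwa [mul_inv_eq_one] at h5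
      rw [← h3]
      exact hpow _ _ (fun k hk => sr_ne (by rintro rfl; exact hk hi)) k hk
    have key : ∀ v : W, (∀ i ∈ J, 0 ≤ rep cs h v⁻¹ (sr i)) → (∀ i ∈ J, 0 ≤ rep cs h v (sr i)) →
        (∀ i ∈ J, ∀ k, k ∉ J → rep cs h v⁻¹ (sr i) k = 0) → ∀ i ∈ J, ∃ k ∈ J, rep cs h v⁻¹ (sr i) = sr k := by
      intro v ha hb hd i hi
      have h3 := ht_le_rep hb (ha i hi) (hd i hi)
      rw [rep_apply_inv] at h3
      have h4 : ht (sr i : I → ℤ) = 1 := by
        unfold ht sr
        simp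
      rw [h4] at h3
      obtain ⟨k, hk, hk0⟩ := eq_sr_of_ht ((isRoot_sr cs h i).act v⁻¹) (ha i hi) h3
      refine ⟨k, ?_, hk⟩
      by_contra hkJ
      rw [hd i hi k hkJ] at hk0
      exact lt_irrefl _ hk0
    refine ⟨key w h1 h2 hc, ?_⟩
    have := key w⁻¹ (by rw [inv_inv]; exact h2) h1 (by rw [inv_inv]; exact hc')
    rwa [inv_inv] at this
  · right
    push Not at hc
    obtain ⟨i, hi, k, hk, hne⟩ := hc
    have hpos : 0 < rep cs h w⁻¹ (sr i) k := lt_of_le_of_ne (h1 i hi k) (Ne.symm hne)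
    refine ⟨i, hi, ?_⟩
    rintro x ⟨hx, hxi⟩
    refine ⟨hx.1.act _, rep_nonneg_of_supp h1 hx.2.1 hx.2.2, k, hk, ?_⟩
    exact lt_of_lt_of_le (mul_pos hxi hpos) (rep_apply_ge h1 hx.2.1 hx.2.2 i k)

variable (R : RGD cs h p T n X)

include R

/-- Every element is `a g b` with `a, b ∈ P_J` and `g` over an element minimal in its double coset. -/
theorem exists_min_rep [Finite W] (hG : GG cs h T X = ⊤) (J : Set I) {x : Y} (hx : x ∉ PJ cs h T X J) :
    ∃ a ∈ PJ cs h T X J, ∃ b ∈ PJ cs h T X J, ∃ w g, Rp cs R.nsys w g ∧ x = a * g * b ∧ w ∉ WJ cs J ∧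
      (∀ i ∈ J, 0 ≤ rep cs h w⁻¹ (sr i)) ∧ ∀ i ∈ J, 0 ≤ rep cs h w (sr i) := by
  classical
  have hex : ∃ m : ℕ, ∃ w, cs.length w = m ∧ ∃ a ∈ PJ cs h T X J, ∃ b ∈ PJ cs h T X J, ∃ g,
      Rp cs R.nsys w g ∧ x = a * g * b := by
    obtain ⟨w, b₁, hb₁, k, hk, b₂, hb₂, e⟩ := (mem_GG R).1 (show x ∈ GG cs h T X by rw [hG]; exact Subgroup.mem_top x)
    exact ⟨_, w, rfl, b₁, B_le_PJ hb₁, b₂, B_le_PJ hb₂, k, hk, e⟩
  obtain ⟨w, hw, a, ha, b, hb, g, hg, e⟩ := Nat.find_spec hex
  have hmin := fun m hm => Nat.find_min hex (m := m) hm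
  have hmin' : ∀ v, (∃ a ∈ PJ cs h T X J, ∃ b ∈ PJ cs h T X J, ∃ g, Rp cs R.nsys v g ∧ x = a * g * b) →
      cs.length w ≤ cs.length v := by
    intro v hv
    rw [hw]
    by_contra hcon
    exact hmin _ (not_le.1 hcon) ⟨v, rfl, hv⟩
  refine ⟨a, ha, b, hb, w, g, hg, e, ?_, ?_, ?_⟩
  · intro hwJ
    apply hx
    rw [e]
    exact mul_mem (mul_mem ha (LJ_le_PJ (rp_mem_LJ R hwJ hg))) hb
  · intro i hi
    refine nonneg_of_lt cs h w⁻¹ i ?_
    rw [cs.length_inv, ← cs.length_inv (w⁻¹ * cs.simple i), mul_inv_rev, inv_inv, cs.inv_simple]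
    have h1 := hmin' (cs.simple i * w) ⟨a * (n i)⁻¹, mul_mem ha (inv_mem (LJ_le_PJ (n_mem_LJ R hi))), b, hb,
      n i * g, (rp_simple cs R.nsys i).mul hg, by rw [e]; group⟩
    have h2 := cs.length_simple_mul w i
    omega
  · intro i hi
    refine nonneg_of_lt cs h w i ?_
    have h1 := hmin' (w * cs.simple i) ⟨a, ha, (n i)⁻¹ * b, mul_mem (inv_mem (LJ_le_PJ (n_mem_LJ R hi))) hb,
      g * n i, hg.mul (rp_simple cs R.nsys i), by rw [e]; group⟩
    have h2 := cs.length_mul_simple w i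
    omega

/-- **Harish-Chandra induction of cuspidal characters in general position.** -/
theorem isIrr_indFun_rgd [Finite W] [Fintype Y] (hG : GG cs h T X = ⊤) (J : Set I)
    {ψ : ↥(PJ cs h T X J) → ℂ} (hψ : IsIrrCharacter _ ψ)
    (hV : ∀ (v : Y) (hv : v ∈ VJ cs h X J), ψ ⟨v, VJ_le_PJ hv⟩ = ψ 1)
    (hc : ∀ i ∈ J, ∀ [Fintype (rad cs h X J i)], ∑ u : rad cs h X J i, ψ ⟨u, rad_le_PJ J i u.2⟩ = 0)
    (hs : ∀ w g, Rp cs R.nsys w g → w ∉ WJ cs J → Perm cs h J w →
      ∃ (L : Subgroup Y) (hL : L ≤ PJ cs h T X J) (hL' : ∀ l ∈ L, g⁻¹ * l * g ∈ PJ cs h T X J),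
        ∀ [Fintype L], ∑ l : L, ψ ⟨l, hL l.2⟩ * conj (ψ ⟨g⁻¹ * l * g, hL' l l.2⟩) = 0) :
    IsIrrCharacter Y (indFun (PJ cs h T X J) ψ) := by
  classical
  refine isIrr_indFun_rep _ hψ fun x hx => ?_
  obtain ⟨a, ha, b, hb, w, g, hg, e, hwJ, h1, h2⟩ := exists_min_rep R hG J hx
  refine ⟨a, ha, b, hb, g, e, ?_⟩
  rcases perm_or h1 h2 with hp | ⟨i, hi, hrad⟩
  · exact hs w g hg hwJ hp
  · have hconj : ∀ l ∈ rad cs h X J i, g⁻¹ * l * g ∈ VJ cs h X J := fun l hl =>
      conj_mem_Sup' R hg (fun x hx => hx.1.1) hrad hl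
    refine ⟨rad cs h X J i, rad_le_PJ J i, fun l hl => VJ_le_PJ (hconj l hl), ?_⟩
    intro hf
    have h3 : ∀ l : rad cs h X J i, ψ ⟨l, rad_le_PJ J i l.2⟩ *
        conj (ψ ⟨g⁻¹ * l * g, VJ_le_PJ (hconj l l.2)⟩) = ψ ⟨l, rad_le_PJ J i l.2⟩ * conj (ψ 1) := by
      intro l
      rw [hV _ (hconj l l.2)]
    rw [Finset.sum_congr rfl fun l _ => h3 l, ← Finset.sum_mul, hc i hi, zero_mul]

end rgd

end Cfsg.Agent.H53.HC
end

-- part: H627/Gow/Mackey
section
set_option linter.all false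
open scoped Cfsg.Agent.FastGrp

/-!
# Mackey's formula by double cosets (helper627, S4913)

`mterm T α β x` : the inner product of `α` and of the conjugate of `β` by `x` on `T ∩ x T x⁻¹`;

* `inner_eq`, `inner_ge`, `inner_le` : the inner product of the induced characters of `α` and `β` in terms of sets of
  representatives of the double cosets;
* `mterm_cases` : the term is zero or one if the restrictions to a subgroup are irreducible.
-/

set_option autoImplicit false
set_option linter.unusedSectionVars false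

open scoped ComplexConjugate
open Cfsg

namespace Cfsg.Agent.H627.Gow

open Cfsg.Agent.OddOrderCharacters.Clifford Cfsg.Agent.Characters Cfsg.Agent.H53.HC

section mackey

variable {G : Type*} [Group G] [Fintype G] (T : Subgroup G) [Fintype T] (α β : T → ℂ)

/-- the Mackey term of `x` -/
noncomputable def mterm (x : G) : ℂ :=
  (Nat.card (dsub T x) : ℂ)⁻¹ * twist T α β x

theorem twist_eq (x : G) : twist T α β x = (Nat.card (dsub T x) : ℂ) * mterm T α β x := by
  have h : (Nat.card (dsub T x) : ℂ) ≠ 0 := by exact_mod_cast Nat.card_pos.ne'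
  rw [mterm, mul_inv_cancel_left₀ h]

variable {T α β}

theorem mterm_eq_classInner (x : G) [Fintype (dsub T x)] :
    mterm T α β x = classInner (α ∘ (dsub T x).subtype) (β ∘ dhom T x) := by
  classical
  rw [mterm, classInner_apply, twist_def, sum_eq_sum_subgroup (dsub T x)]
  · congr 1
    refine Finset.sum_congr rfl fun d _ => ?_
    rw [ext_apply_mem T β _ ((mem_dsub T x d).1 d.2)]
    rfl
  · intro t ht
    rw [mem_dsub] at ht
    rw [ext_apply_not_mem T β _ ht, map_zero, mul_zero]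

theorem mterm_nat (hα : IsCharacter T α) (hβ : IsCharacter T β) (x : G) : ∃ n : ℕ, mterm T α β x = n := by
  classical
  have : Fintype (dsub T x) := Fintype.ofFinite _
  rw [mterm_eq_classInner]
  exact Core.classInner_isNat (Core.isCharacter_comp _ hα) (Core.isCharacter_comp _ hβ)

/-- the double coset of `x` -/
def dbl (T : Subgroup G) (x : G) : Set G := {y | ∃ a ∈ T, ∃ b ∈ T, y = a * x * b}

theorem mem_dbl_self (x : G) : x ∈ dbl T x := ⟨1, one_mem _, 1, one_mem _, by simp⟩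

theorem dbl_eq_of_mem {x y : G} (h : y ∈ dbl T x) : dbl T y = dbl T x := by
  obtain ⟨a, ha, b, hb, rfl⟩ := h
  ext z
  constructor
  · rintro ⟨c, hc, d, hd, rfl⟩
    exact ⟨c * a, mul_mem hc ha, b * d, mul_mem hb hd, by group⟩
  · rintro ⟨c, hc, d, hd, rfl⟩
    exact ⟨c * a⁻¹, mul_mem hc (inv_mem ha), b⁻¹ * d, mul_mem (inv_mem hb) hd, by group⟩

open Classical in
theorem sum_dbl (hα : IsClassFunction T α) (hβ : IsClassFunction T β) (x : G) :
    ∑ y ∈ Finset.univ.filter (fun y => y ∈ dbl T x), twist T α β y =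
      (Nat.card T : ℂ) * ((Nat.card T : ℂ) * mterm T α β x) := by
  have hd : (Nat.card (dsub T x) : ℂ) ≠ 0 := by exact_mod_cast Nat.card_pos.ne'
  -- the sum over `T × T`
  have h1 : ∑ ab : T × T, twist T α β ((ab.1 : G) * x * ab.2) =
      (Nat.card T : ℂ) * ((Nat.card T : ℂ) * twist T α β x) := by
    rw [Finset.sum_congr rfl fun ab _ => twist_mul T hα hβ ab.1.2 ab.2.2 x, Finset.sum_const,
      Finset.card_univ, Fintype.card_prod, nsmul_eq_mul, Nat.card_eq_fintype_card]
    push_cast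
    ring
  have h2 : ∑ ab : T × T, twist T α β ((ab.1 : G) * x * ab.2) =
      ∑ y ∈ Finset.univ.filter (fun y => y ∈ dbl T x), (Nat.card (dsub T x) : ℂ) * twist T α β y := by
    rw [← Finset.sum_fiberwise_of_maps_to (t := Finset.univ.filter (fun y => y ∈ dbl T x))
      (g := fun ab : T × T => (ab.1 : G) * x * ab.2)]
    · refine Finset.sum_congr rfl fun y hy => ?_
      rw [Finset.sum_congr rfl (g := fun _ => twist T α β y), Finset.sum_const, nsmul_eq_mul]
      · congr 2
        obtain ⟨a, ha, b, hb, rfl⟩ := (Finset.mem_filter.1 hy).2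
        have : Fintype (dsub T x) := Fintype.ofFinite _
        rw [Nat.card_eq_fintype_card, ← Finset.card_univ]
        have key : ∀ t : dsub T x, x⁻¹ * ((t : T) : G)⁻¹ * x * b ∈ T := by
          intro t
          have h3 := (mem_dsub T x t.1).1 t.2
          have h4 : x⁻¹ * ((t : T) : G)⁻¹ * x * b = (x⁻¹ * ((t : T) : G) * x)⁻¹ * b := by group
          rw [h4]
          exact mul_mem (inv_mem h3) hb
        refine Finset.card_bij' (fun ab hab => (⟨(⟨a, ha⟩ : T)⁻¹ * ab.1, ?_⟩ : dsub T x))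
          (fun t _ => (⟨a, ha⟩ * (t : T), ⟨x⁻¹ * ((t : T) : G)⁻¹ * x * b, key t⟩)) ?_ ?_ ?_ ?_
        · rw [mem_dsub]
          have h3 := (Finset.mem_filter.1 hab).2
          have h4 : x⁻¹ * (((⟨a, ha⟩ : T)⁻¹ * ab.1 : T) : G) * x = b * (ab.2 : G)⁻¹ := by
            rw [Subgroup.coe_mul, InvMemClass.coe_inv]
            change x⁻¹ * (a⁻¹ * (ab.1 : G)) * x = _
            have h5 : (ab.1 : G) = a * x * b * (ab.2 : G)⁻¹ * x⁻¹ := by
              rw [← h3]; group
            rw [h5]; group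
          rw [h4]
          exact mul_mem hb (inv_mem ab.2.2)
        · intro t _
          exact Finset.mem_univ _
        · intro t _
          refine Finset.mem_filter.2 ⟨Finset.mem_univ _, ?_⟩
          rw [Subgroup.coe_mul]
          change a * ((t : T) : G) * x * (x⁻¹ * ((t : T) : G)⁻¹ * x * b) = _
          group
        · intro ab hab
          have h3 := (Finset.mem_filter.1 hab).2
          apply Prod.ext
          · apply Subtype.ext
            simp
          · apply Subtype.ext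
            change x⁻¹ * (((⟨a, ha⟩ : T)⁻¹ * ab.1 : T) : G)⁻¹ * x * b = ab.2
            rw [Subgroup.coe_mul, InvMemClass.coe_inv]
            change x⁻¹ * (a⁻¹ * (ab.1 : G))⁻¹ * x * b = _
            have h5 : (ab.2 : G) = ((ab.1 : G) * x)⁻¹ * (a * x * b) := by
              rw [← h3]; group
            rw [h5]; group
        · intro t _
          apply Subtype.ext
          simp
      · intro ab hab
        rw [(Finset.mem_filter.1 hab).2]
    · intro ab _
      exact Finset.mem_filter.2 ⟨Finset.mem_univ _, ab.1, ab.1.2, ab.2, ab.2.2, rfl⟩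
  rw [h1, ← Finset.mul_sum, twist_eq] at h2
  have h3 : (Nat.card (dsub T x) : ℂ) * ((Nat.card T : ℂ) * ((Nat.card T : ℂ) * mterm T α β x)) =
      (Nat.card (dsub T x) : ℂ) * ∑ y ∈ Finset.univ.filter (fun y => y ∈ dbl T x), twist T α β y := by
    rw [← h2]; ring
  exact (mul_left_cancel₀ hd h3).symm

open Classical in
/-- The sum over a union of different double cosets. -/
theorem sum_union (hα : IsClassFunction T α) (hβ : IsClassFunction T β) (S : Finset G)
    (hdis : ∀ s ∈ S, ∀ s' ∈ S, s' ∈ dbl T s → s = s') :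
    ∑ y ∈ Finset.univ.filter (fun y => ∃ s ∈ S, y ∈ dbl T s), twist T α β y =
      (Nat.card T : ℂ) * ((Nat.card T : ℂ) * ∑ s ∈ S, mterm T α β s) := by
  have h1 : Finset.univ.filter (fun y => ∃ s ∈ S, y ∈ dbl T s) =
      S.biUnion (fun s => Finset.univ.filter (fun y => y ∈ dbl T s)) := by
    ext y
    simp
  rw [h1, Finset.sum_biUnion, Finset.mul_sum, Finset.mul_sum]
  · refine Finset.sum_congr rfl fun s _ => ?_
    rw [sum_dbl hα hβ]
  · intro s hs s' hs' hne
    rw [Function.onFun, Finset.disjoint_left]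
    intro y hy hy'
    apply hne
    refine hdis s hs s' hs' ?_
    rw [← dbl_eq_of_mem (Finset.mem_filter.1 hy).2, dbl_eq_of_mem (Finset.mem_filter.1 hy').2]
    exact mem_dbl_self s'

/-- **Mackey's formula.** -/
theorem inner_eq (hα : IsClassFunction T α) (hβ : IsClassFunction T β) (S : Finset G)
    (hdis : ∀ s ∈ S, ∀ s' ∈ S, s' ∈ dbl T s → s = s')
    (hcov : ∀ x, twist T α β x ≠ 0 → ∃ s ∈ S, x ∈ dbl T s) :
    classInner (indFun T α) (indFun T β) = ∑ s ∈ S, mterm T α β s := by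
  classical
  have hT : (Nat.card T : ℂ) ≠ 0 := by exact_mod_cast Nat.card_pos.ne'
  have h1 := sum_union hα hβ S hdis
  rw [Finset.sum_filter_of_ne (fun x _ hx => hcov x hx)] at h1
  rw [classInner_indFun_indFun, h1, inv_mul_cancel_left₀ hT, inv_mul_cancel_left₀ hT]

/-- A lower bound for the inner product of two induced characters. -/
theorem inner_ge (hα : IsCharacter T α) (hβ : IsCharacter T β) (S : Finset G)
    (hdis : ∀ s ∈ S, ∀ s' ∈ S, s' ∈ dbl T s → s = s') (m : G → ℕ) (hm : ∀ s ∈ S, mterm T α β s = m s) {n : ℕ}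
    (hn : classInner (indFun T α) (indFun T β) = n) : ∑ s ∈ S, m s ≤ n := by
  classical
  have hT : (Nat.card T : ℂ) ≠ 0 := by exact_mod_cast Nat.card_pos.ne'
  have hα' := Core.isCharacter_isClassFunction hα
  have hβ' := Core.isCharacter_isClassFunction hβ
  have h1 := sum_union hα' hβ' S hdis
  choose t ht using fun x => twist_eq_nat T hα hβ x
  have h2 : (Nat.card T : ℂ) * ((Nat.card T : ℂ) * ((∑ s ∈ S, m s : ℕ) : ℂ)) =
      ((∑ y ∈ Finset.univ.filter (fun y => ∃ s ∈ S, y ∈ dbl T s), t y : ℕ) : ℂ) := by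
    push_cast
    rw [← Finset.sum_congr rfl fun s hs => hm s hs, ← h1]
    exact Finset.sum_congr rfl fun y _ => ht y
  have h3 : ((Nat.card T * (Nat.card T * n) : ℕ) : ℂ) = ((∑ y, t y : ℕ) : ℂ) := by
    rw [Nat.cast_mul, Nat.cast_mul, ← hn, classInner_indFun_indFun]
    push_cast
    rw [← Finset.sum_congr rfl fun y _ => ht y]
    field_simp
  have h4 : Nat.card T * (Nat.card T * ∑ s ∈ S, m s) ≤ Nat.card T * (Nat.card T * n) := by
    have h5 : Nat.card T * (Nat.card T * ∑ s ∈ S, m s) =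
        ∑ y ∈ Finset.univ.filter (fun y => ∃ s ∈ S, y ∈ dbl T s), t y := by exact_mod_cast h2
    have h6 : Nat.card T * (Nat.card T * n) = ∑ y, t y := by exact_mod_cast h3
    rw [h5, h6]
    exact Finset.sum_le_sum_of_subset (Finset.filter_subset _ _)
  exact Nat.le_of_mul_le_mul_left (Nat.le_of_mul_le_mul_left h4 Nat.card_pos) Nat.card_pos

/-- Every finite set contains representatives of its double cosets. -/
theorem exists_reps (T : Subgroup G) (S : Finset G) : ∃ S' ⊆ S, (∀ s ∈ S', ∀ s' ∈ S', s' ∈ dbl T s → s = s') ∧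
    ∀ s ∈ S, ∃ s' ∈ S', s ∈ dbl T s' := by
  classical
  obtain ⟨u, hu, hinj, himg⟩ := Finset.exists_subset_injOn_image_eq_of_surjOn (f := dbl T) (S : Set G) (S.image (dbl T))
    (by
      intro d hd
      obtain ⟨s, hs, rfl⟩ := Finset.mem_image.1 (Finset.mem_coe.1 hd)
      exact ⟨s, hs, rfl⟩)
  refine ⟨u, by exact_mod_cast hu, fun s hs s' hs' h => ?_, fun s hs => ?_⟩
  · exact (hinj hs' hs (dbl_eq_of_mem h)).symm
  · have h1 : dbl T s ∈ u.image (dbl T) := by
      rw [himg]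
      exact Finset.mem_image_of_mem _ hs
    obtain ⟨s', hs', h2⟩ := Finset.mem_image.1 h1
    exact ⟨s', hs', by rw [h2]; exact mem_dbl_self s⟩

/-- **An upper bound for the inner product of two induced characters.** -/
theorem inner_le (hα : IsCharacter T α) (hβ : IsCharacter T β) (S : Finset G)
    (hcov : ∀ x, twist T α β x ≠ 0 → ∃ s ∈ S, x ∈ dbl T s)
    (hle : ∀ s ∈ S, mterm T α β s = 0 ∨ mterm T α β s = 1) :
    ∃ n : ℕ, classInner (indFun T α) (indFun T β) = n ∧ n ≤ S.card := by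
  classical
  obtain ⟨S', hS', hdis, hcov'⟩ := exists_reps T S
  have h1 := inner_eq (Core.isCharacter_isClassFunction hα) (Core.isCharacter_isClassFunction hβ) S' hdis
    (fun x hx => by
      obtain ⟨s, hs, hxs⟩ := hcov x hx
      obtain ⟨s', hs', hss'⟩ := hcov' s hs
      exact ⟨s', hs', by rw [← dbl_eq_of_mem hss']; exact hxs⟩)
  refine ⟨(S'.filter (fun s => mterm T α β s = 1)).card, ?_, ?_⟩
  · rw [h1, Finset.card_filter]
    push_cast
    refine Finset.sum_congr rfl fun s hs => ?_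
    rcases hle s (hS' hs) with h2 | h2
    · rw [h2, if_neg (by norm_num)]
    · rw [h2, if_pos rfl]
  · exact le_trans (Finset.card_filter_le _ _) (Finset.card_le_card hS')

/-- The Mackey term is zero or one as soon as the characters are irreducible on a common subgroup, and it is one if and
only if the two characters agree on `T ∩ x T x⁻¹`. -/
theorem mterm_cases (hα : IsCharacter T α) (hβ : IsCharacter T β) (x : G) (L : Subgroup G) (hL : L ≤ T)
    (hL' : ∀ l ∈ L, x⁻¹ * l * x ∈ T) (h1 : IsIrrCharacter L (fun l => α ⟨l, hL l.2⟩))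
    (h2 : IsIrrCharacter L (fun l => β ⟨x⁻¹ * l * x, hL' l l.2⟩)) :
    (mterm T α β x = 0 ∨ mterm T α β x = 1) ∧
      ((∀ (t : G) (ht : t ∈ T) (ht' : x⁻¹ * t * x ∈ T), α ⟨t, ht⟩ = β ⟨x⁻¹ * t * x, ht'⟩) → mterm T α β x = 1) := by
  classical
  have : Fintype (dsub T x) := Fintype.ofFinite _
  have : Fintype L := Fintype.ofFinite _
  let f : L →* dsub T x :=
    { toFun := fun l => ⟨⟨l, hL l.2⟩, (mem_dsub T x _).2 (hL' l l.2)⟩
      map_one' := rfl
      map_mul' := fun _ _ => rfl }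
  have hα' : IsIrrCharacter (dsub T x) (α ∘ (dsub T x).subtype) :=
    CharactersDeep.MaxInduced.isIrr_of_comp f (Core.isCharacter_comp _ hα) h1
  have hβ' : IsIrrCharacter (dsub T x) (β ∘ dhom T x) :=
    CharactersDeep.MaxInduced.isIrr_of_comp f (Core.isCharacter_comp _ hβ) h2
  rw [mterm_eq_classInner]
  constructor
  · by_cases h : α ∘ (dsub T x).subtype = β ∘ dhom T x
    · right
      rw [h]
      exact Core.classInner_irr_self hβ'
    · left
      exact Core.classInner_irr_ne hα' hβ' h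
  · intro h
    have h3 : α ∘ (dsub T x).subtype = β ∘ dhom T x := by
      funext d
      exact h d.1 d.1.2 ((mem_dsub T x d.1).1 d.2)
    rw [h3]
    exact Core.classInner_irr_self hβ'

/-- equality in the Cauchy-Schwarz inequality -/
theorem eq_of_inner {A B : G → ℂ} {n m : ℕ} (hA : classInner A A = n) (hB : classInner B B = n)
    (hAB : classInner A B = m) (hBA : classInner B A = m) (hnm : n ≤ m) : A = B := by
  have h1 : classInner (A - B) (A - B) = ((2 * (n : ℝ) - 2 * m : ℝ) : ℂ) := by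
    rw [Core.classInner_sub_left, Core.classInner_sub_right, Core.classInner_sub_right, hA, hB, hAB, hBA]
    push_cast
    ring
  have h2 : classInner (A - B) (A - B) = 0 := by
    have h3 := Core.classInner_self_eq_ofReal (A - B)
    rw [h3] at h1 ⊢
    have h4 := Complex.ofReal_injective h1
    have h5 : (0 : ℝ) ≤ (Nat.card G : ℝ)⁻¹ * ∑ g, Complex.normSq ((A - B) g) :=
      mul_nonneg (inv_nonneg.2 (Nat.cast_nonneg _)) (Finset.sum_nonneg fun _ _ => Complex.normSq_nonneg _)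
    have h6 : (n : ℝ) ≤ m := by exact_mod_cast hnm
    have h7 : (Nat.card G : ℝ)⁻¹ * ∑ g, Complex.normSq ((A - B) g) = 0 := by linarith
    rw [h7, Complex.ofReal_zero]
  have h4 := Core.classInner_self_eq_zero h2
  exact sub_eq_zero.1 h4

end mackey

end Cfsg.Agent.H627.Gow

private theorem dce_affeb20e3c33 : _root_.True := by
  try have : _root_.True := by simp only [_root_.Cfsg.Agent.H627.Gow.mterm.eq_1]
  exact _root_.True.intro
end
end

-- part: H628/Sq/Par
section
prune_inst 0x80000000000000c010000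
set_option linter.all false
open scoped Cfsg.Agent.FastGrp

-- part: H628/Sq/NormLe
section
/-!
# Upper bounds for the norm of an induced character (Mackey)

* `norm_le` : `‖Ind ψ‖² ≤ ∑ m i` if the Mackey terms at representatives `r i` of the double cosets are `≤ m i`;
* `inner_le_comp` : restriction does not decrease the inner product of two characters;
* `twist_le_of_sub` : an upper bound for the Mackey term from a subgroup of `T ∩ x T x⁻¹`;
* `card_le_norm` : the number of irreducible constituents is at most the norm.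
-/

set_option autoImplicit false

open scoped ComplexConjugate
open Cfsg

namespace Cfsg.Agent.H628.Sq.NormLe

open Cfsg.Agent.OddOrderCharacters.Clifford Cfsg.Agent.Characters Cfsg.Agent.H53.HC

universe u

variable {G : Type u} [Group G]

theorem card_dcoset [Finite G] (T : Subgroup G) (r : G) :
    Nat.card {x : G // ∃ a ∈ T, ∃ b ∈ T, x = a * r * b} * Nat.card (dsub T r) ≤ Nat.card T * Nat.card T := by
  classical
  rw [← Nat.card_prod, ← Nat.card_prod]
  choose a ha b hb hab using fun x : {x : G // ∃ a ∈ T, ∃ b ∈ T, x = a * r * b} => x.2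
  refine Nat.card_le_card_of_injective (fun p : {x : G // ∃ a ∈ T, ∃ b ∈ T, x = a * r * b} × dsub T r =>
    ((⟨a p.1 * (p.2 : T), mul_mem (ha p.1) (p.2 : T).2⟩ : T),
      (⟨(r⁻¹ * ((p.2 : T) : G) * r)⁻¹ * b p.1, mul_mem (inv_mem ((mem_dsub T r _).1 p.2.2)) (hb p.1)⟩ : T))) ?_
  rintro ⟨x, d⟩ ⟨x', d'⟩ h
  have h1 : a x * ((d : T) : G) = a x' * ((d' : T) : G) := congrArg (fun p : T × T => (p.1 : G)) h
  have h2 : (r⁻¹ * ((d : T) : G) * r)⁻¹ * b x = (r⁻¹ * ((d' : T) : G) * r)⁻¹ * b x' :=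
    congrArg (fun p : T × T => (p.2 : G)) h
  have h3 : (x : G) = x' := by
    have e : ∀ (z : {x : G // ∃ a ∈ T, ∃ b ∈ T, x = a * r * b}) (d : T),
        (z : G) = (a z * (d : G)) * r * ((r⁻¹ * (d : G) * r)⁻¹ * b z) := by
      intro z d
      nth_rw 1 [hab z]
      group
    rw [e x d, h1, h2, ← e x' d']
  have h4 : x = x' := Subtype.ext h3
  subst h4
  have h5 : ((d : T) : G) = ((d' : T) : G) := mul_left_cancel h1
  exact Prod.ext rfl (Subtype.ext (Subtype.ext h5))

/-- **Mackey's formula, upper bound** -/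
theorem norm_le [Fintype G] (T : Subgroup G) [Fintype T] {ψ : T → ℂ} (hψ : IsClassFunction T ψ) {ι : Type*}
    [Fintype ι] (r : ι → G) (m : ι → ℝ) (hr : ∀ x, ∃ i, ∃ a ∈ T, ∃ b ∈ T, x = a * r i * b)
    (hm : ∀ i, ‖twist T ψ ψ (r i)‖ ≤ m i * Nat.card (dsub T (r i))) :
    ‖classInner (indFun T ψ) (indFun T ψ)‖ ≤ ∑ i, m i := by
  classical
  have hT0 : (0 : ℝ) < Nat.card T := by exact_mod_cast Nat.card_pos
  have hm0 : ∀ i, 0 ≤ m i := by
    intro i
    have h1 := (norm_nonneg _).trans (hm i)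
    have h2 : (0 : ℝ) < Nat.card (dsub T (r i)) := by exact_mod_cast Nat.card_pos
    by_contra h3
    push Not at h3
    have := mul_neg_of_neg_of_pos h3 h2
    linarith
  let D : ι → Finset G := fun i => Finset.univ.filter fun x => ∃ a ∈ T, ∃ b ∈ T, x = a * r i * b
  have h1 : ∑ x : G, ‖twist T ψ ψ x‖ ≤ ∑ i, ∑ x ∈ D i, ‖twist T ψ ψ x‖ := by
    have h2 : ∀ x : G, ‖twist T ψ ψ x‖ ≤ ∑ i, if x ∈ D i then ‖twist T ψ ψ x‖ else 0 := by
      intro x
      obtain ⟨i, h⟩ := hr x
      have hx : x ∈ D i := Finset.mem_filter.2 ⟨Finset.mem_univ _, h⟩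
      have h3 : ∀ j ∈ Finset.univ, 0 ≤ if x ∈ D j then ‖twist T ψ ψ x‖ else 0 := by
        intro j _
        split_ifs
        · exact norm_nonneg _
        · exact le_rfl
      refine le_trans (le_of_eq ?_) (Finset.single_le_sum h3 (Finset.mem_univ i))
      rw [if_pos hx]
    refine (Finset.sum_le_sum fun x _ => h2 x).trans (le_of_eq ?_)
    rw [Finset.sum_comm]
    refine Finset.sum_congr rfl fun i _ => ?_
    rw [Finset.sum_ite_mem, Finset.univ_inter]
  have h2 : ∀ i, ∑ x ∈ D i, ‖twist T ψ ψ x‖ ≤ m i * (Nat.card T * Nat.card T) := by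
    intro i
    have h3 : ∀ x ∈ D i, ‖twist T ψ ψ x‖ = ‖twist T ψ ψ (r i)‖ := by
      intro x hx
      obtain ⟨-, a, ha, b, hb, rfl⟩ := Finset.mem_filter.1 hx
      rw [twist_mul T hψ hψ ha hb]
    rw [Finset.sum_congr rfl h3, Finset.sum_const, nsmul_eq_mul]
    have h4 : ((D i).card : ℝ) * Nat.card (dsub T (r i)) ≤ Nat.card T * Nat.card T := by
      have := card_dcoset T (r i)
      rw [Nat.card_eq_fintype_card, Fintype.card_subtype] at this
      exact_mod_cast this
    calc ((D i).card : ℝ) * ‖twist T ψ ψ (r i)‖ ≤ (D i).card * (m i * Nat.card (dsub T (r i))) := by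
          gcongr
          exact hm i
      _ = m i * ((D i).card * Nat.card (dsub T (r i))) := by ring
      _ ≤ _ := by gcongr; exact hm0 i
  rw [classInner_indFun_indFun, norm_mul, norm_mul, norm_inv, Complex.norm_natCast]
  have h3 : ‖∑ x : G, twist T ψ ψ x‖ ≤ (∑ i, m i) * (Nat.card T * Nat.card T) := by
    refine (norm_sum_le _ _).trans (h1.trans ?_)
    rw [Finset.sum_mul]
    exact Finset.sum_le_sum fun i _ => h2 i
  rw [inv_mul_le_iff₀ hT0, inv_mul_le_iff₀ hT0]
  refine h3.trans (le_of_eq ?_)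
  ring

/-! ### inner products and restriction -/

theorem irr_self_comp {D L : Type*} [Group D] [Fintype D] [Group L] [Fintype L] (f : L →* D) {χ : D → ℂ}
    (hχ : IsIrrCharacter D χ) : ∃ n : ℕ, 1 ≤ n ∧ classInner (χ ∘ f) (χ ∘ f) = n := by
  obtain ⟨n, hn⟩ := Core.classInner_isNat (Core.isCharacter_comp f (Core.isIrr_isCharacter hχ))
    (Core.isCharacter_comp f (Core.isIrr_isCharacter hχ))
  refine ⟨n, ?_, hn⟩
  by_contra h0
  have h1 : n = 0 := by omega
  rw [h1, Nat.cast_zero] at hn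
  have h2 := congrFun (Core.classInner_self_eq_zero hn) 1
  rw [Function.comp_apply, map_one, Pi.zero_apply] at h2
  exact Core.isIrr_apply_one_ne_zero hχ h2

/-- restriction does not decrease the inner product -/
theorem inner_le_comp {D L : Type*} [Group D] [Fintype D] [Group L] [Fintype L] (f : L →* D)
    {α β : D → ℂ} (hα : IsCharacter D α) (hβ : IsCharacter D β) :
    ‖classInner α β‖ ≤ ‖classInner (α ∘ f) (β ∘ f)‖ := by
  classical
  have : Finite (IrrCharacter D) := Core.finite_irr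
  let _ : Fintype (IrrCharacter D) := Fintype.ofFinite _
  obtain ⟨m, hm⟩ := Core.isCharacter_iff.1 hα
  obtain ⟨n, hn⟩ := Core.isCharacter_iff.1 hβ
  have hc : ∀ χ ψ : IrrCharacter D, ∃ k : ℕ, classInner ((χ : D → ℂ) ∘ f) ((ψ : D → ℂ) ∘ f) = k := fun χ ψ =>
    Core.classInner_isNat (Core.isCharacter_comp f (Core.isIrr_isCharacter χ.2))
      (Core.isCharacter_comp f (Core.isIrr_isCharacter ψ.2))
  choose k hk using hc
  have hk1 : ∀ χ, 1 ≤ k χ χ := by
    intro χ
    obtain ⟨j, hj, h⟩ := irr_self_comp f χ.2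
    rw [hk] at h
    have : k χ χ = j := by exact_mod_cast h
    omega
  have e1 : classInner α β = ((∑ χ : IrrCharacter D, m χ * n χ : ℕ) : ℂ) := by
    conv_lhs => rw [hn]
    rw [Core.classInner_sum_right]
    push_cast
    refine Finset.sum_congr rfl fun χ _ => ?_
    have e : (n χ • (χ : D → ℂ)) = (n χ : ℂ) • (χ : D → ℂ) := by rw [Nat.cast_smul_eq_nsmul]
    have e2 : classInner α χ = m χ := by
      rw [hm]; exact Core.classInner_sum_nsmul_irr m χ
    rw [e, Core.classInner_smul_right, Complex.conj_natCast, e2, mul_comm]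
  have e2 : classInner (α ∘ f) (β ∘ f) =
      ((∑ χ : IrrCharacter D, ∑ ψ : IrrCharacter D, m χ * (n ψ * k χ ψ) : ℕ) : ℂ) := by
    have h1 : α ∘ f = ∑ χ : IrrCharacter D, (m χ : ℂ) • ((χ : D → ℂ) ∘ f) := by
      funext x
      rw [Function.comp_apply, hm, Finset.sum_apply, Finset.sum_apply]
      exact Finset.sum_congr rfl fun χ _ => by rw [Pi.smul_apply, Pi.smul_apply, nsmul_eq_mul, smul_eq_mul]; rfl
    have h2 : β ∘ f = ∑ χ : IrrCharacter D, (n χ : ℂ) • ((χ : D → ℂ) ∘ f) := by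
      funext x
      rw [Function.comp_apply, hn, Finset.sum_apply, Finset.sum_apply]
      exact Finset.sum_congr rfl fun χ _ => by rw [Pi.smul_apply, Pi.smul_apply, nsmul_eq_mul, smul_eq_mul]; rfl
    rw [h1, Core.classInner_sum_left]
    push_cast
    refine Finset.sum_congr rfl fun χ _ => ?_
    rw [Core.classInner_smul_left, h2, Core.classInner_sum_right, Finset.mul_sum]
    refine Finset.sum_congr rfl fun ψ _ => ?_
    rw [Core.classInner_smul_right, Complex.conj_natCast, hk]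
  rw [e1, e2, Complex.norm_natCast, Complex.norm_natCast]
  norm_cast
  refine Finset.sum_le_sum fun χ _ => ?_
  refine le_trans ?_ (Finset.single_le_sum (f := fun ψ => m χ * (n ψ * k χ ψ)) (fun _ _ => Nat.zero_le _)
    (Finset.mem_univ χ))
  exact Nat.mul_le_mul_left _ (Nat.le_mul_of_pos_right _ (hk1 χ))

/-- the Mackey term is bounded by the inner product on a subgroup `L ≤ T ∩ x T x⁻¹` -/
theorem twist_le_of_sub [Finite G] (T : Subgroup G) [Fintype T] {α β : T → ℂ} (hα : IsCharacter T α)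
    (hβ : IsCharacter T β) (x : G) (L : Subgroup G) [Fintype L] (hL : L ≤ T) (hL' : ∀ l ∈ L, x⁻¹ * l * x ∈ T)
    {m : ℝ} (h : ‖∑ l : L, α ⟨l, hL l.2⟩ * conj (β ⟨x⁻¹ * l * x, hL' l l.2⟩)‖ ≤ m * Nat.card L) :
    ‖twist T α β x‖ ≤ m * Nat.card (dsub T x) := by
  classical
  have : Fintype (dsub T x) := Fintype.ofFinite _
  have hα' : IsCharacter (dsub T x) (α ∘ (dsub T x).subtype) := Core.isCharacter_comp _ hα
  have hβ' : IsCharacter (dsub T x) (β ∘ dhom T x) := Core.isCharacter_comp _ hβ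
  let f : L →* dsub T x :=
    { toFun := fun l => ⟨⟨l, hL l.2⟩, (mem_dsub T x _).2 (hL' l l.2)⟩
      map_one' := rfl
      map_mul' := fun _ _ => rfl }
  have h0 := inner_le_comp f hα' hβ'
  have hL0 : (0 : ℝ) < Nat.card L := by exact_mod_cast Nat.card_pos
  have h1 : ‖classInner ((α ∘ (dsub T x).subtype) ∘ f) ((β ∘ dhom T x) ∘ f)‖ ≤ m := by
    rw [Core.classInner_def, norm_mul, norm_inv, Complex.norm_natCast, inv_mul_le_iff₀ hL0, mul_comm]
    exact h
  have h2 := h0.trans h1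
  have hD0 : (0 : ℝ) < Nat.card (dsub T x) := by exact_mod_cast Nat.card_pos
  rw [classInner_apply, norm_mul, norm_inv, Complex.norm_natCast, inv_mul_le_iff₀ hD0, mul_comm] at h2
  refine le_trans (le_of_eq ?_) h2
  congr 1
  rw [twist_def, sum_eq_sum_subgroup (dsub T x)]
  · refine Finset.sum_congr rfl fun d _ => ?_
    rw [ext_apply_mem T β _ ((mem_dsub T x d).1 d.2)]
    rfl
  · intro t ht
    rw [mem_dsub] at ht
    rw [ext_apply_not_mem T β _ ht, map_zero, mul_zero]

/-- the number of constituents is at most the norm -/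
theorem card_le_norm [Fintype G] {Θ : G → ℂ} (hΘ : IsCharacter G Θ) (s : Finset (IrrCharacter G))
    (hs : ∀ χ ∈ s, classInner Θ (χ : G → ℂ) ≠ 0) : (s.card : ℝ) ≤ ‖classInner Θ Θ‖ := by
  classical
  have : Finite (IrrCharacter G) := Core.finite_irr
  let _ : Fintype (IrrCharacter G) := Fintype.ofFinite _
  obtain ⟨m, hm⟩ := Core.isCharacter_iff.1 hΘ
  have e2 : ∀ χ : IrrCharacter G, classInner Θ (χ : G → ℂ) = m χ := by
    intro χ
    rw [hm]; exact Core.classInner_sum_nsmul_irr m χ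
  have e1 : classInner Θ Θ = ((∑ χ : IrrCharacter G, m χ * m χ : ℕ) : ℂ) := by
    conv_lhs =>
      arg 2
      rw [hm]
    rw [Core.classInner_sum_right]
    push_cast
    refine Finset.sum_congr rfl fun χ _ => ?_
    have e : (m χ • (χ : G → ℂ)) = (m χ : ℂ) • (χ : G → ℂ) := by rw [Nat.cast_smul_eq_nsmul]
    rw [e, Core.classInner_smul_right, Complex.conj_natCast, e2]
  rw [e1, Complex.norm_natCast]
  norm_cast
  calc s.card = ∑ χ ∈ s, 1 := by rw [Finset.sum_const, smul_eq_mul, mul_one]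
    _ ≤ ∑ χ ∈ s, m χ * m χ := by
        refine Finset.sum_le_sum fun χ hχ => ?_
        have h1 : m χ ≠ 0 := by
          intro h0
          apply hs χ hχ
          rw [e2, h0, Nat.cast_zero]
        exact Nat.mul_pos (Nat.pos_of_ne_zero h1) (Nat.pos_of_ne_zero h1)
    _ ≤ _ := Finset.sum_le_sum_of_subset (Finset.subset_univ s)

end Cfsg.Agent.H628.Sq.NormLe
end

-- part: H628/Sq/Par
section
/-!
# The norm of a Harish-Chandra induced character in rank two

`norm_par` : `P = L R` a subgroup, `τ` an irreducible character of `P` with `R` in the kernel, `f` the multiplicity of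
the trivial character of `X` in `τ`; all double cosets of `P` but `P` and `P y₀ P` have representatives `y` with
`y⁻¹ X y ≤ R`, `y₀` normalises `L`. Then `‖Ind τ‖² ≤ 2 + n f²`.
-/

set_option autoImplicit false

open scoped ComplexConjugate
open Cfsg

namespace Cfsg.Agent.H628.Sq.Par

open Cfsg.Agent.OddOrderCharacters.Clifford Cfsg.Agent.Characters Cfsg.Agent.H53.HC Cfsg.Agent.H628.Sq.NormLe

universe u

variable {G : Type u} [Group G]

section avg

variable {P : Subgroup G} {t : G → ℂ} {R X : Subgroup G}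

/-- averaging a right `R`-invariant function -/
theorem sum_left {L : Subgroup G} [Fintype L] {M : Type*} [AddCommMonoid M] (F : G → M)
    (hF : ∀ g r, r ∈ R → F (g * r) = F g) {g : G} (hg : ∃ l ∈ L, ∃ r ∈ R, g = l * r) :
    ∑ l : L, F (l * g) = ∑ l : L, F l := by
  obtain ⟨l₀, hl₀, r, hr, rfl⟩ := hg
  refine Fintype.sum_equiv (Equiv.mulRight (⟨l₀, hl₀⟩ : L)) _ _ fun l => ?_
  rw [← mul_assoc, hF _ _ hr]
  rfl

/-- the average over `P = L R` of a right `R`-invariant function is its average over `L` -/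
theorem sum_P {L : Subgroup G} [Fintype L] [Fintype P] (F : G → ℝ) (hLP : L ≤ P)
    (hF : ∀ g r, r ∈ R → F (g * r) = F g) (hPL : ∀ g ∈ P, ∃ l ∈ L, ∃ r ∈ R, g = l * r) :
    (Nat.card P : ℝ) * ∑ l : L, F l = Nat.card L * ∑ g : P, F g := by
  have h1 : ∑ g : P, ∑ l : L, F (l * g) = (Nat.card P : ℝ) * ∑ l : L, F l := by
    rw [Finset.sum_congr rfl fun (g : P) _ => sum_left F hF (hPL g g.2), Finset.sum_const, Finset.card_univ,
      Nat.card_eq_fintype_card, nsmul_eq_mul]
  have h2 : ∑ g : P, ∑ l : L, F (l * g) = (Nat.card L : ℝ) * ∑ g : P, F g := by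
    rw [Finset.sum_comm]
    have h3 : ∀ l : L, ∑ g : P, F (l * g) = ∑ g : P, F g := fun l =>
      Fintype.sum_equiv (Equiv.mulLeft (⟨l, hLP l.2⟩ : P)) _ _ fun g => rfl
    rw [Finset.sum_congr rfl fun l _ => h3 l, Finset.sum_const, Finset.card_univ, Nat.card_eq_fintype_card,
      nsmul_eq_mul]
  rw [← h1, h2]

end avg

theorem mul_le_half {a b : ℝ} : a * b ≤ (a ^ 2 + b ^ 2) / 2 := by nlinarith [sq_nonneg (a - b)]

/-- **The norm of the induced character.** -/
theorem norm_par [Fintype G] (P R X L : Subgroup G) [Fintype P] [Fintype X] (hRP : R ≤ P) (hXP : X ≤ P)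
    (hLP : L ≤ P) (hPL : ∀ g ∈ P, ∃ l ∈ L, ∃ r ∈ R, g = l * r) {ι : Type*} [Fintype ι] (y : ι → G) (y₀ : G)
    (hd : ∀ x, x ∉ P → (∃ a ∈ P, ∃ b ∈ P, x = a * y₀ * b) ∨ ∃ i, ∃ a ∈ P, ∃ b ∈ P, x = a * y i * b)
    (h0 : ∀ l, l ∈ L ↔ y₀⁻¹ * l * y₀ ∈ L)
    (M : ι → Subgroup G) (hXM : ∀ i, X ≤ M i) (hM : ∀ i, ∀ m ∈ M i, ∃ x ∈ X, ∃ k ∈ R, m = x * k)
    (hyX : ∀ i, ∀ x ∈ X, (y i)⁻¹ * x * y i ∈ R) (hyM : ∀ i m, m ∈ M i ↔ (y i)⁻¹ * m * y i ∈ M i)
    {τ : P → ℂ} (hτ : IsIrrCharacter P τ) (hR : ∀ g r : P, (r : G) ∈ R → τ (g * r) = τ g)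
    {f : ℂ} (hf : ∑ x : X, τ ⟨x, hXP x.2⟩ = Nat.card X * f) :
    ‖classInner (indFun P τ) (indFun P τ)‖ ≤ 2 + Fintype.card ι * ‖f‖ ^ 2 := by
  classical
  have hcl := Core.isIrr_isClassFunction hτ
  have hch := Core.isIrr_isCharacter hτ
  set t : G → ℂ := extendByZero P τ with ht
  have tP : ∀ g (hg : g ∈ P), t g = τ ⟨g, hg⟩ := fun g hg => ext_apply_mem P τ g hg
  have tr : ∀ g r, r ∈ R → t (g * r) = t g := by
    intro g r hr
    by_cases hg : g ∈ P
    · rw [tP g hg, tP _ (mul_mem hg (hRP hr))]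
      exact hR ⟨g, hg⟩ ⟨r, hRP hr⟩ hr
    · rw [ht, ext_apply_not_mem P τ g hg, ext_apply_not_mem P τ _ fun h => hg ?_]
      have := mul_mem h (inv_mem (hRP hr))
      rwa [mul_inv_cancel_right] at this
  have tl : ∀ g r, r ∈ R → t (r * g) = t g := by
    intro g r hr
    have h1 : t (r * g) = t (g * r) := by
      have := ext_conj hcl (hRP hr) (r * g)
      rw [← ht] at this
      rw [← this]
      congr 1
      group
    rw [h1, tr g r hr]
  -- the norm of `τ`
  have hnP : ∑ g : P, ‖t g‖ ^ 2 = Nat.card P := by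
    have h1 := Core.classInner_irr_self hτ
    rw [classInner_apply, inv_mul_eq_iff_eq_mul₀ card_ne_zero', mul_one] at h1
    have h2 : ((∑ g : P, ‖t g‖ ^ 2 : ℝ) : ℂ) = ((Nat.card P : ℝ) : ℂ) := by
      rw [Complex.ofReal_natCast, ← h1]
      push_cast
      refine Finset.sum_congr rfl fun g _ => ?_
      rw [tP g g.2, Complex.mul_conj, Complex.normSq_eq_norm_sq]
      push_cast
      rfl
    exact_mod_cast h2
  have : Fintype L := Fintype.ofFinite L
  have hnL : ∑ l : L, ‖t l‖ ^ 2 = Nat.card L := by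
    have h1 := sum_P (P := P) (L := L) (R := R) (fun g => ‖t g‖ ^ 2) hLP (fun g r hr => by
      show ‖t (g * r)‖ ^ 2 = _
      rw [tr g r hr]) hPL
    rw [hnP] at h1
    have h2 : (Nat.card P : ℝ) ≠ 0 := by exact_mod_cast Nat.card_pos.ne'
    have h3 : (Nat.card P : ℝ) * ∑ l : L, ‖t l‖ ^ 2 = Nat.card P * Nat.card L := by
      rw [h1, mul_comm]
    exact mul_left_cancel₀ h2 h3
  -- the sums over `X`
  have hX : ∑ x : X, t x = Nat.card X * f := by
    rw [← hf]
    exact Finset.sum_congr rfl fun x _ => tP x (hXP x.2)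
  have hX0 : (Nat.card X : ℂ) ≠ 0 := card_ne_zero'
  have hXm : ∀ i, ∀ m ∈ M i, ∑ x : X, t (x * m) = Nat.card X * f := by
    intro i m hm
    rw [sum_left (L := X) (R := R) t tr (hM i m hm), hX]
  have hMP : ∀ i, M i ≤ P := by
    intro i m hm
    obtain ⟨x, hx, k, hk, rfl⟩ := hM i m hm
    exact mul_mem (hXP hx) (hRP hk)
  -- the sum over `M i`
  have hMt : ∀ i, ∀ [Fintype (M i)], ∑ m : M i, t m = Nat.card (M i) * f := by
    intro i _
    have h1 : ∑ x : X, ∑ m : M i, t (x * m) = Nat.card X * ∑ m : M i, t m := by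
      have h2 : ∀ x : X, ∑ m : M i, t (x * m) = ∑ m : M i, t m := fun x =>
        Fintype.sum_equiv (Equiv.mulLeft (⟨x, hXM i x.2⟩ : M i)) _ _ fun m => rfl
      rw [Finset.sum_congr rfl fun x _ => h2 x, Finset.sum_const, Finset.card_univ, Nat.card_eq_fintype_card,
        nsmul_eq_mul]
    rw [Finset.sum_comm, Finset.sum_congr rfl fun (m : M i) _ => hXm i m m.2, Finset.sum_const, Finset.card_univ,
      nsmul_eq_mul] at h1
    have h3 : (Nat.card X : ℂ) * ∑ m : M i, t m = Nat.card X * (Nat.card (M i) * f) := by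
      rw [← h1, Nat.card_eq_fintype_card (α := M i)]; ring
    exact mul_left_cancel₀ hX0 h3
  have hMs : ∀ i, ∀ [Fintype (M i)], ∑ m : M i, t m * conj (t ((y i)⁻¹ * m * y i)) = Nat.card (M i) * (f * conj f) := by
    intro i _
    have h1 : ∑ x : X, ∑ m : M i, t (x * m) * conj (t ((y i)⁻¹ * m * y i)) =
        Nat.card X * ∑ m : M i, t m * conj (t ((y i)⁻¹ * m * y i)) := by
      have h2 : ∀ x : X, ∑ m : M i, t (x * m) * conj (t ((y i)⁻¹ * m * y i)) =
          ∑ m : M i, t m * conj (t ((y i)⁻¹ * m * y i)) := by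
        intro x
        refine Fintype.sum_equiv (Equiv.mulLeft (⟨x, hXM i x.2⟩ : M i)) _ _ fun m => ?_
        show t (x * m) * conj (t ((y i)⁻¹ * m * y i)) = t (x * m) * conj (t ((y i)⁻¹ * (x * m) * y i))
        congr 2
        have e : (y i)⁻¹ * ((x : G) * m) * y i = ((y i)⁻¹ * x * y i) * ((y i)⁻¹ * m * y i) := by group
        rw [e, tl _ _ (hyX i x x.2)]
      rw [Finset.sum_congr rfl fun x _ => h2 x, Finset.sum_const, Finset.card_univ, Nat.card_eq_fintype_card,
        nsmul_eq_mul]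
    rw [Finset.sum_comm] at h1
    have h3 : ∀ m : M i, ∑ x : X, t (x * m) * conj (t ((y i)⁻¹ * m * y i)) =
        (Nat.card X * f) * conj (t ((y i)⁻¹ * m * y i)) := by
      intro m
      rw [← Finset.sum_mul, hXm i m m.2]
    rw [Finset.sum_congr rfl fun m _ => h3 m, ← Finset.mul_sum, ← map_sum] at h1
    have h4 : ∑ m : M i, t ((y i)⁻¹ * m * y i) = ∑ m : M i, t m := by
      refine Fintype.sum_equiv
        { toFun := fun m : M i => (⟨(y i)⁻¹ * m * y i, (hyM i m).1 m.2⟩ : M i)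
          invFun := fun m : M i => (⟨y i * m * (y i)⁻¹, (hyM i _).2 (by
            have : (y i)⁻¹ * (y i * (m : G) * (y i)⁻¹) * y i = m := by group
            rw [this]; exact m.2)⟩ : M i)
          left_inv := fun m => Subtype.ext (by simp; group)
          right_inv := fun m => Subtype.ext (by simp; group) } _ _ fun m => rfl
    rw [h4, hMt i, map_mul, Complex.conj_natCast] at h1
    have h5 : (Nat.card X : ℂ) * ∑ m : M i, t m * conj (t ((y i)⁻¹ * m * y i)) =
        Nat.card X * (Nat.card (M i) * (f * conj f)) := by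
      rw [← h1]; ring
    exact mul_left_cancel₀ hX0 h5
  -- Mackey
  have key := norm_le P hcl (ι := Option (Option ι)) (fun o => match o with
      | none => 1
      | some none => y₀
      | some (some i) => y i) (fun o => match o with
      | none => 1
      | some none => 1
      | some (some _) => ‖f‖ ^ 2) ?_ ?_
  · refine key.trans (le_of_eq ?_)
    rw [Fintype.sum_option, Fintype.sum_option, Finset.sum_const, Finset.card_univ, nsmul_eq_mul]
    ring
  · intro x
    by_cases hx : x ∈ P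
    · exact ⟨none, x, hx, 1, one_mem _, by simp⟩
    · rcases hd x hx with ⟨a, ha, b, hb, h⟩ | ⟨i, a, ha, b, hb, h⟩
      · exact ⟨some none, a, ha, b, hb, h⟩
      · exact ⟨some (some i), a, ha, b, hb, h⟩
  · rintro (_ | _ | i)
    · refine twist_le_of_sub P hch hch 1 P le_rfl (fun l hl => by simpa using hl) ?_
      have h1 : ∑ l : P, τ ⟨l, (le_refl P) l.2⟩ * conj (τ ⟨1⁻¹ * l * 1, by simp⟩) = Nat.card P := by
        have h1 := Core.classInner_irr_self hτ
        rw [classInner_apply, inv_mul_eq_iff_eq_mul₀ card_ne_zero', mul_one] at h1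
        rw [← h1]
        refine Finset.sum_congr rfl fun l _ => ?_
        congr 3
        exact Subtype.ext (by simp)
      refine (le_of_eq ?_)
      show ‖∑ l : P, τ ⟨l, (le_refl P) l.2⟩ * conj (τ ⟨1⁻¹ * l * 1, by simp⟩)‖ = _
      rw [h1, Complex.norm_natCast, one_mul]
    · refine twist_le_of_sub P hch hch y₀ L hLP (fun l hl => hLP ((h0 l).1 hl)) ?_
      refine (norm_sum_le _ _).trans ?_
      have h2 : ∑ l : L, ‖t (y₀⁻¹ * l * y₀)‖ ^ 2 = ∑ l : L, ‖t l‖ ^ 2 := by
        refine Fintype.sum_equiv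
          { toFun := fun m : L => (⟨y₀⁻¹ * m * y₀, (h0 m).1 m.2⟩ : L)
            invFun := fun m : L => (⟨y₀ * m * y₀⁻¹, (h0 _).2 (by
              have : y₀⁻¹ * (y₀ * (m : G) * y₀⁻¹) * y₀ = m := by group
              rw [this]; exact m.2)⟩ : L)
            left_inv := fun m => Subtype.ext (by simp; group)
            right_inv := fun m => Subtype.ext (by simp; group) } _ _ fun m => rfl
      calc ∑ l : L, ‖τ ⟨l, hLP l.2⟩ * conj (τ ⟨y₀⁻¹ * l * y₀, hLP ((h0 l).1 l.2)⟩)‖ =
          ∑ l : L, ‖t l‖ * ‖t (y₀⁻¹ * l * y₀)‖ := by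
            refine Finset.sum_congr rfl fun l _ => ?_
            rw [norm_mul, RCLike.norm_conj, tP l (hLP l.2), tP _ (hLP ((h0 l).1 l.2))]
        _ ≤ ∑ l : L, (‖t l‖ ^ 2 + ‖t (y₀⁻¹ * l * y₀)‖ ^ 2) / 2 := Finset.sum_le_sum fun l _ => mul_le_half
        _ = 1 * Nat.card L := by
            rw [← Finset.sum_div, Finset.sum_add_distrib, h2, hnL]
            ring
    · have : Fintype (M i) := Fintype.ofFinite _
      refine twist_le_of_sub P hch hch (y i) (M i) (hMP i) (fun l hl => hMP i ((hyM i l).1 hl)) ?_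
      have h1 : ∑ l : M i, τ ⟨l, hMP i l.2⟩ * conj (τ ⟨(y i)⁻¹ * l * y i, hMP i ((hyM i l).1 l.2)⟩) =
          ∑ m : M i, t m * conj (t ((y i)⁻¹ * m * y i)) := by
        refine Finset.sum_congr rfl fun l _ => ?_
        rw [tP l (hMP i l.2), tP _ (hMP i ((hyM i l).1 l.2))]
      rw [h1, hMs i, norm_mul, norm_mul, Complex.norm_natCast, RCLike.norm_conj]
      refine le_of_eq ?_
      ring

end Cfsg.Agent.H628.Sq.Par
end
end

section
prune_inst 0x181800000000000000000000000000010000000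

-- part: H115/HC/TwoHecke
section
set_option linter.all false
open scoped Cfsg.Agent.FastGrp

/-!
# The two constituents of an induced linear character of norm two (helper115)

`P ≤ G`, `f` a linear character of `P`, `g ∉ P` such that `f` and its conjugate by `x` agree on `P ∩ x P x⁻¹` exactly
for `x ∈ P ∪ P g P`.

`exists_pair` : the induced character is the sum of two irreducible characters of degrees `d`, `d'` with `d ∣ b d'`,
`d' ∣ b d`, `b = |P : P ∩ g P g⁻¹|`.
-/

set_option autoImplicit false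

open scoped ComplexConjugate
open Cfsg Module

namespace Cfsg.Agent.H115.HC.Two

open Cfsg.Agent.OddOrderCharacters.Clifford Cfsg.Agent.CharactersDeep.MackeyLinear Cfsg.Agent.Characters
  Cfsg.Agent.Characters.Core

universe u

/-- the double coset `P g P` -/
def DC {G : Type*} [Group G] (P : Subgroup G) (g : G) : Set G := {x | ∃ a ∈ P, ∃ b ∈ P, x = a * g * b}

/-- the number of elements of a double coset -/
theorem card_DC {G : Type*} [Group G] [Finite G] (P : Subgroup G) (g : G) :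
    Nat.card (DC P g) * Nat.card (dsub P g) = Nat.card P * Nat.card P := by
  classical
  have h : ∀ x : DC P g, ∃ a : P, ∃ b : P, (x : G) = a * g * b := by
    rintro ⟨x, a, ha, b, hb, rfl⟩
    exact ⟨⟨a, ha⟩, ⟨b, hb⟩, rfl⟩
  choose A B hAB using h
  rw [← Nat.card_prod, ← Nat.card_prod]
  have hmem : ∀ k : dsub P g, g⁻¹ * (((k : P) : G))⁻¹ * g ∈ P := by
    intro k
    have h1 := (mem_dsub P g _).1 (inv_mem k.2)
    exact h1
  refine Nat.card_congr (Equiv.ofBijective (fun z : DC P g × dsub P g =>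
    (A z.1 * (z.2 : P), (⟨g⁻¹ * (((z.2 : P) : G))⁻¹ * g, hmem z.2⟩ : P) * B z.1)) ⟨?_, ?_⟩)
  · rintro ⟨x, k⟩ ⟨x', k'⟩ h
    have h1 : (A x : G) * (k : P) = (A x' : G) * (k' : P) := congrArg Subtype.val (congrArg Prod.fst h)
    have h2 : g⁻¹ * (((k : P) : G))⁻¹ * g * B x = g⁻¹ * (((k' : P) : G))⁻¹ * g * B x' :=
      congrArg Subtype.val (congrArg Prod.snd h)
    have h3 : x = x' := by
      apply Subtype.ext
      calc (x : G) = A x * g * B x := hAB x
        _ = (A x * (k : P)) * g * (g⁻¹ * (((k : P) : G))⁻¹ * g * B x) := by group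
        _ = (A x' * (k' : P)) * g * (g⁻¹ * (((k' : P) : G))⁻¹ * g * B x') := by rw [h1, h2]
        _ = A x' * g * B x' := by group
        _ = x' := (hAB x').symm
    subst h3
    have h4 : (k : P) = k' := Subtype.ext (mul_left_cancel h1)
    rw [Subtype.ext h4]
  · rintro ⟨a, b⟩
    let x : DC P g := ⟨a * g * b, a, a.2, b, b.2, rfl⟩
    have hx : (A x : G) * g * B x = a * g * b := (hAB x).symm
    have hk : g⁻¹ * ((((A x)⁻¹ * a : P)) : G) * g = B x * (b : G)⁻¹ := by
      rw [Subgroup.coe_mul, Subgroup.coe_inv]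
      have h1 : (a : G) * g = A x * g * B x * (b : G)⁻¹ := by rw [hx]; group
      calc g⁻¹ * ((A x : G)⁻¹ * a) * g = g⁻¹ * (A x : G)⁻¹ * (a * g) := by group
        _ = _ := by rw [h1]; group
    have hkm : (A x)⁻¹ * a ∈ dsub P g := by
      rw [mem_dsub, hk]
      exact mul_mem (B x).2 (inv_mem b.2)
    refine ⟨(x, ⟨(A x)⁻¹ * a, hkm⟩), Prod.ext ?_ (Subtype.ext ?_)⟩
    · change A x * ((A x)⁻¹ * a) = a
      group
    · change g⁻¹ * ((((A x)⁻¹ * a : P)) : G)⁻¹ * g * B x = b
      have h1 : g⁻¹ * ((((A x)⁻¹ * a : P)) : G)⁻¹ * g = (g⁻¹ * ((((A x)⁻¹ * a : P)) : G) * g)⁻¹ := by group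
      rw [h1, hk]
      group

/-- A complex number by which an algebraic integer combination of the operators of a finite group acts on a nonzero
vector is an algebraic integer. -/
theorem isIntegral_of_vec {G : Type*} [Group G] [Finite G] {V : Type*} [AddCommGroup V]
    [Module ℂ V] (ρ : Representation ℂ G V) {v : V} (hv : v ≠ 0) {ι : Type*} [Fintype ι]
    (a : ι → ℂ) (x : ι → G) (ha : ∀ i, IsIntegral ℤ (a i)) (s : ℂ)
    (hs : ∑ i, a i • ρ (x i) v = s • v) : IsIntegral ℤ s := by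
  classical
  let R := integralClosure ℤ ℂ
  let L : Submodule R V := Submodule.span R (Set.range fun g : G => ρ g v)
  have hmem : ∀ g : G, ρ g v ∈ L := fun g => Submodule.subset_span ⟨g, rfl⟩
  have hfg : L.FG := Submodule.fg_span (Set.finite_range _)
  have hne : L ≠ ⊥ := by
    intro h
    have h1 := hmem 1
    rw [h, Submodule.mem_bot] at h1
    apply hv
    simpa using h1
  have hstab : ∀ n ∈ L, s • n ∈ L := by
    intro n hn
    induction hn using Submodule.span_induction with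
    | mem y hy =>
      obtain ⟨g, rfl⟩ := hy
      have h1 : s • ρ g v = ∑ i, (⟨a i, ha i⟩ : R) • ρ (g * x i) v := by
        rw [← map_smul, ← hs, map_sum]
        refine Finset.sum_congr rfl fun i _ => ?_
        rw [map_smul, map_mul, Module.End.mul_apply]
        rfl
      change s • ρ g v ∈ L
      rw [h1]
      exact Submodule.sum_mem _ fun i _ => L.smul_mem _ (hmem _)
    | zero => rw [smul_zero]; exact L.zero_mem
    | add y z _ _ hy hz => rw [smul_add]; exact L.add_mem hy hz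
    | smul r y _ hy =>
      rw [smul_comm]
      exact L.smul_mem _ hy
  have h1 : IsIntegral R s := isIntegral_of_smul_mem_submodule L hne hfg s hstab
  exact isIntegral_trans s h1

/-- sums over the cosets -/
theorem sum_cosets {G V : Type*} [Group G] [Fintype G] [AddCommGroup V] [Module ℂ V] (K : Subgroup G)
    [Fintype (G ⧸ K)] (F : G → V) (hF : ∀ g, ∀ k ∈ K, F (g * k) = F g) :
    ∑ g : G, F g = (Nat.card K : ℂ) • ∑ q : G ⧸ K, F q.out := by
  classical
  have := Fintype.ofFinite K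
  have h1 : ∑ g : G, F g = ∑ q : G ⧸ K, ∑ g ∈ Finset.univ.filter (fun g : G => (g : G ⧸ K) = q), F g := by
    rw [Finset.sum_fiberwise]
  rw [h1, Finset.smul_sum]
  refine Finset.sum_congr rfl fun q _ => ?_
  have h2 : ∀ g ∈ Finset.univ.filter (fun g : G => (g : G ⧸ K) = q), F g = F q.out := by
    intro g hg
    rw [Finset.mem_filter] at hg
    have h3 : (q.out : G ⧸ K) = (g : G ⧸ K) := by rw [hg.2]; exact Quotient.out_eq q
    rw [QuotientGroup.eq] at h3
    have h4 := hF q.out _ h3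
    rw [mul_inv_cancel_left] at h4
    exact h4
  rw [Finset.sum_congr rfl h2, Finset.sum_const, ← Nat.cast_smul_eq_nsmul ℂ]
  congr 2
  obtain ⟨x, rfl⟩ := QuotientGroup.mk_surjective q
  have hinj : Function.Injective (fun k : K => x * (k : G)) :=
    fun a b hab => Subtype.ext (mul_left_cancel hab)
  have h5 : Finset.univ.filter (fun g : G => (g : G ⧸ K) = (x : G ⧸ K)) =
      (Finset.univ : Finset K).map ⟨fun k : K => x * (k : G), hinj⟩ := by
    ext g
    simp only [Finset.mem_filter, Finset.mem_univ, true_and, Finset.mem_map,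
      Function.Embedding.coeFn_mk]
    rw [eq_comm, QuotientGroup.eq]
    constructor
    · intro hg
      exact ⟨⟨_, hg⟩, by simp⟩
    · rintro ⟨k, rfl⟩
      simp
  rw [h5, Finset.card_map, Finset.card_univ, Nat.card_eq_fintype_card]

section lam

variable {G : Type u} [Group G] (P : Subgroup G) (f : P →* ℂˣ)

/-- the spherical function (times `|P|`) -/
noncomputable def Lam [Fintype P] (χ : G → ℂ) (x : G) : ℂ := ∑ p : P, (((f p)⁻¹ : ℂˣ) : ℂ) * χ (p * x)

variable [Fintype P]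

theorem Lam_mul_left (χ : G → ℂ) {a : G} (ha : a ∈ P) (x : G) :
    Lam P f χ (a * x) = f ⟨a, ha⟩ * Lam P f χ x := by
  unfold Lam
  rw [Finset.mul_sum]
  refine Fintype.sum_equiv (Equiv.mulRight ⟨a, ha⟩) _ _ fun p => ?_
  rw [Equiv.coe_mulRight, map_mul, mul_inv, Units.val_mul, Subgroup.coe_mul, ← mul_assoc (p : G) a x, ← mul_assoc]
  congr 1
  rw [mul_left_comm, Units.mul_inv, mul_one]

theorem Lam_mul_right {χ : G → ℂ} (hχ : IsClassFunction G χ) {a : G} (ha : a ∈ P) (x : G) :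
    Lam P f χ (x * a) = f ⟨a, ha⟩ * Lam P f χ x := by
  unfold Lam
  rw [Finset.mul_sum]
  refine Fintype.sum_equiv (Equiv.mulLeft ⟨a, ha⟩) _ _ fun p => ?_
  rw [Equiv.coe_mulLeft, map_mul, mul_inv, Units.val_mul, Subgroup.coe_mul]
  have h1 : χ ((p : G) * (x * a)) = χ (a * (p : G) * x) := by
    rw [← hχ ((p : G) * (x * a)) a]
    congr 1
    group
  rw [h1, ← mul_assoc ((f ⟨a, ha⟩ : ℂˣ) : ℂ), ← mul_assoc ((f ⟨a, ha⟩ : ℂˣ) : ℂ), Units.mul_inv, one_mul]

theorem Lam_one (χ : G → ℂ) (h1 : classInner (fun p : P => χ p) (fun p => (f p : ℂ)) = 1) :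
    Lam P f χ 1 = Nat.card P := by
  rw [classInner_apply, inv_mul_eq_one₀ card_ne_zero'] at h1
  rw [h1]
  unfold Lam
  refine Finset.sum_congr rfl fun p _ => ?_
  rw [mul_one, mul_comm]
  congr 1
  have h2 := mul_conj_hom f p
  rw [Units.val_inv_eq_inv_val]
  exact (eq_inv_of_mul_eq_one_right h2).symm

/-- the sum of the squares -/
theorem sum_Lam [Fintype G] {χ : G → ℂ} (hχ : IsIrrCharacter G χ) :
    ∑ x : G, Lam P f χ x * Lam P f χ x⁻¹ = Nat.card P * (Nat.card G / χ 1) * Lam P f χ 1 := by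
  classical
  have hcl := isIrr_isClassFunction hχ
  have h1 : ∀ p q : P, ∑ x : G, χ (p * x) * χ (q * x⁻¹) = (Nat.card G : ℂ) * χ ((p : G) * q) / χ 1 := by
    intro p q
    rw [← Cfsg.Agent.Characters.Central.sum_char_mul_char_inv_mul hχ]
    refine Fintype.sum_equiv (Equiv.mulLeft (p : G)) _ _ fun x => ?_
    rw [Equiv.coe_mulLeft]
    congr 1
    rw [← hcl ((q : G) * x⁻¹) (q : G)⁻¹]
    congr 1
    group
  have h2 : ∑ x : G, Lam P f χ x * Lam P f χ x⁻¹ =
      ∑ p : P, ∑ q : P, (((f p)⁻¹ : ℂˣ) : ℂ) * (((f q)⁻¹ : ℂˣ) : ℂ) * ((Nat.card G : ℂ) * χ ((p : G) * q) / χ 1) := by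
    have h3 : ∀ x : G, Lam P f χ x * Lam P f χ x⁻¹ =
        ∑ p : P, ∑ q : P, (((f p)⁻¹ : ℂˣ) : ℂ) * (((f q)⁻¹ : ℂˣ) : ℂ) * (χ (p * x) * χ (q * x⁻¹)) := by
      intro x
      unfold Lam
      rw [Finset.sum_mul]
      refine Finset.sum_congr rfl fun p _ => ?_
      rw [Finset.mul_sum]
      refine Finset.sum_congr rfl fun q _ => ?_
      ring
    rw [Finset.sum_congr rfl fun x _ => h3 x, Finset.sum_comm]
    refine Finset.sum_congr rfl fun p _ => ?_
    rw [Finset.sum_comm]
    refine Finset.sum_congr rfl fun q _ => ?_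
    rw [← Finset.mul_sum, h1]
  rw [h2]
  have h4 : ∀ p : P, ∑ q : P, (((f p)⁻¹ : ℂˣ) : ℂ) * (((f q)⁻¹ : ℂˣ) : ℂ) *
      ((Nat.card G : ℂ) * χ ((p : G) * q) / χ 1) = (Nat.card G / χ 1) * Lam P f χ 1 := by
    intro p
    unfold Lam
    rw [Finset.mul_sum]
    refine Fintype.sum_equiv (Equiv.mulLeft p) _ _ fun q => ?_
    rw [Equiv.coe_mulLeft, map_mul, mul_inv, Units.val_mul, Subgroup.coe_mul, mul_one]
    ring
  rw [Finset.sum_congr rfl fun p _ => h4 p, Finset.sum_const, Finset.card_univ, nsmul_eq_mul,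
    Nat.card_eq_fintype_card (α := P), mul_assoc]

/-- the integrality of the eigenvalue -/
theorem isIntegral_Lam [Finite G] {χ : G → ℂ} (hχ : IsIrrCharacter G χ)
    (h1 : classInner (fun p : P => χ p) (fun p => (f p : ℂ)) = 1) {g : G}
    (hst : ∀ (t : P) (ht : g⁻¹ * t * g ∈ P), f t = f ⟨g⁻¹ * t * g, ht⟩) :
    IsIntegral ℤ (Lam P f χ g / Nat.card (dsub P g)) := by
  classical
  have hL1 := Lam_one P f χ h1
  obtain ⟨n, ρ, hρ, h⟩ := hχ
  have hcP : (Nat.card P : ℂ) ≠ 0 := card_ne_zero'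
  have hcK : (Nat.card (dsub P g) : ℂ) ≠ 0 := card_ne_zero'
  set E : Module.End ℂ (Fin n → ℂ) := ∑ p : P, (((f p)⁻¹ : ℂˣ) : ℂ) • ρ p with hE
  have hl : ∀ q : P, ρ q * E = (f q : ℂ) • E := by
    intro q
    rw [hE, Finset.mul_sum, Finset.smul_sum]
    refine Fintype.sum_equiv (Equiv.mulLeft q) _ _ fun p => ?_
    rw [Equiv.coe_mulLeft, map_mul, mul_inv, Units.val_mul, mul_smul_comm, smul_smul, ← mul_assoc, Units.mul_inv,
      one_mul, Subgroup.coe_mul, map_mul]
  have hEE : E * E = (Nat.card P : ℂ) • E := by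
    conv_lhs => rw [hE, Finset.sum_mul]
    have h2 : ∀ p : P, ((((f p)⁻¹ : ℂˣ) : ℂ) • ρ p) * E = E := by
      intro p
      rw [smul_mul_assoc, hl, smul_smul, Units.inv_mul, one_smul]
    rw [Finset.sum_congr rfl fun p _ => h2 p, Finset.sum_const, Finset.card_univ, ← Nat.cast_smul_eq_nsmul ℂ,
      Nat.card_eq_fintype_card]
  have htr : ∀ x : G, LinearMap.trace ℂ (Fin n → ℂ) (E * ρ x) = Lam P f χ x := by
    intro x
    rw [hE, Finset.sum_mul, map_sum]
    unfold Lam
    refine Finset.sum_congr rfl fun p _ => ?_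
    rw [smul_mul_assoc, map_smul, smul_eq_mul, ← map_mul, ← h]
    rfl
  have htr1 : LinearMap.trace ℂ (Fin n → ℂ) E = Nat.card P := by
    have := htr 1
    rwa [map_one, mul_one, hL1] at this
  have hrk : finrank ℂ (LinearMap.range E) = 1 := by
    set Q : Module.End ℂ (Fin n → ℂ) := (Nat.card P : ℂ)⁻¹ • E with hQ
    have h1 : Q * Q = Q := by
      rw [hQ, smul_mul_smul_comm, hEE, smul_smul]
      congr 1
      field_simp
    have h3 : IsIdempotentElem Q := h1
    have h4 := LinearMap.IsProj.trace (LinearMap.IsIdempotentElem.isProj_range Q h3)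
    rw [hQ, map_smul, htr1, smul_eq_mul, inv_mul_cancel₀ hcP] at h4
    have h5 : finrank ℂ (LinearMap.range Q) = 1 := by exact_mod_cast h4.symm
    rwa [hQ, LinearMap.range_smul _ _ (inv_ne_zero hcP)] at h5
  obtain ⟨⟨v, hvm⟩, hv0, hv⟩ := finrank_eq_one_iff'.1 hrk
  have hv0' : v ≠ 0 := fun h => hv0 (Subtype.ext h)
  have hmem : ∀ y, E y ∈ Submodule.span ℂ {v} := by
    intro y
    obtain ⟨c, hc⟩ := hv ⟨E y, ⟨y, rfl⟩⟩
    rw [Submodule.mem_span_singleton]
    exact ⟨c, congrArg Subtype.val hc⟩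
  let ℓ : (Fin n → ℂ) →ₗ[ℂ] ℂ := (LinearEquiv.toSpanNonzeroSingleton ℂ (Fin n → ℂ) v hv0').symm.toLinearMap.comp
    (LinearMap.codRestrict (Submodule.span ℂ {v}) E hmem)
  have hℓ : ∀ y, E y = ℓ y • v := by
    intro y
    have h2 := (LinearEquiv.toSpanNonzeroSingleton ℂ (Fin n → ℂ) v hv0').apply_symm_apply
      (LinearMap.codRestrict (Submodule.span ℂ {v}) E hmem y)
    have h3 := congrArg Subtype.val h2
    exact h3.symm
  have hEg : ∀ x : G, E (ρ x v) = Lam P f χ x • v := by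
    intro x
    have h2 : E * ρ x = (ℓ.comp (ρ x)).smulRight v := by
      refine LinearMap.ext fun y => ?_
      rw [Module.End.mul_apply, hℓ]
      rfl
    rw [hℓ, ← htr x, h2, LinearMap.trace_smulRight]
    rfl
  have hpv : ∀ p : P, ρ p v = (f p : ℂ) • v := by
    intro p
    obtain ⟨w, hw⟩ := hvm
    rw [← hw]
    have := LinearMap.congr_fun (hl p) w
    exact this
  have := Fintype.ofFinite (P ⧸ dsub P g)
  let F : P → (Fin n → ℂ) := fun p => (((f p)⁻¹ : ℂˣ) : ℂ) • ρ ((p : G) * g) v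
  have hF : ∀ p, ∀ k ∈ dsub P g, F (p * k) = F p := by
    intro p k hk
    have hk' := (mem_dsub P g k).1 hk
    have e1 : (((p * k : P)) : G) * g = (p : G) * g * (g⁻¹ * k * g) := by
      rw [Subgroup.coe_mul]
      group
    change (((f (p * k))⁻¹ : ℂˣ) : ℂ) • ρ ((((p * k : P)) : G) * g) v = (((f p)⁻¹ : ℂˣ) : ℂ) • ρ ((p : G) * g) v
    rw [e1, map_mul ρ, Module.End.mul_apply, hpv ⟨g⁻¹ * k * g, hk'⟩, map_smul, smul_smul, map_mul, mul_inv,
      Units.val_mul, ← hst k hk', mul_assoc, Units.inv_mul, mul_one]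
  have h2 := sum_cosets (dsub P g) F hF
  have h3 : ∑ p : P, F p = Lam P f χ g • v := by
    rw [← hEg g, hE, LinearMap.sum_apply]
    refine Finset.sum_congr rfl fun p _ => ?_
    rw [LinearMap.smul_apply, ← Module.End.mul_apply, ← map_mul]
  rw [h3] at h2
  refine isIntegral_of_vec ρ hv0' (fun q : P ⧸ dsub P g => (((f q.out)⁻¹ : ℂˣ) : ℂ)) (fun q => (q.out : G) * g)
    (fun q => ?_) _ ?_
  · have h4 : ((((f q.out)⁻¹ : ℂˣ) : ℂ)) ^ Nat.card P = 1 := by
      rw [← Units.val_pow_eq_pow_val, inv_pow, ← map_pow, pow_card_eq_one', map_one, inv_one, Units.val_one]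
    exact IsIntegral.of_pow Nat.card_pos (by rw [h4]; exact isIntegral_one)
  · apply smul_right_injective _ hcK
    change (Nat.card (dsub P g) : ℂ) • ∑ q : P ⧸ dsub P g, F q.out =
      (Nat.card (dsub P g) : ℂ) • (Lam P f χ g / Nat.card (dsub P g)) • v
    rw [← h2, smul_smul, mul_div_cancel₀ _ hcK]

end lam

/-- sums of functions supported on `P ∪ P g P` -/
theorem sum_split {G : Type*} [Group G] [Fintype G] (P : Subgroup G) {g : G} (hg : g ∉ P) (F : G → ℂ) (A C : ℂ)
    (hP : ∀ x ∈ P, F x = A) (hD : ∀ x ∈ DC P g, F x = C) (h0 : ∀ x, x ∉ P → x ∉ DC P g → F x = 0) :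
    ∑ x, F x = Nat.card P * A + Nat.card (DC P g) * C := by
  classical
  have hdis : ∀ x ∈ P, x ∉ DC P g := by
    rintro x hx ⟨a, ha, b, hb, rfl⟩
    apply hg
    have h1 := mul_mem (mul_mem (inv_mem ha) hx) (inv_mem hb)
    have e : a⁻¹ * (a * g * b) * b⁻¹ = g := by group
    rwa [e] at h1
  have h1 : ∀ x, F x = (if x ∈ P then A else 0) + (if x ∈ DC P g then C else 0) := by
    intro x
    by_cases hx : x ∈ P
    · rw [if_pos hx, if_neg (hdis x hx), add_zero, hP x hx]
    · by_cases hx' : x ∈ DC P g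
      · rw [if_neg hx, if_pos hx', zero_add, hD x hx']
      · rw [if_neg hx, if_neg hx', add_zero, h0 x hx hx']
  have h2 : ∀ (S : Set G) (B : ℂ), ∑ x, (if x ∈ S then B else 0) = Nat.card S * B := by
    intro S B
    rw [← Finset.sum_filter, Finset.sum_const, nsmul_eq_mul]
    congr 2
    rw [Nat.card_eq_fintype_card, Fintype.card_subtype]
  rw [Finset.sum_congr rfl fun x _ => h1 x, Finset.sum_add_distrib, h2 (DC P g) C]
  congr 1
  exact h2 (P : Set G) A

section pair

variable {G : Type u} [Group G] [Fintype G] (P : Subgroup G) (f : P →* ℂˣ) {g : G}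

/-- the norm of the induced character -/
theorem norm_pair [Fintype P] (hgP : g ∉ P) (hst : ∀ (t : P) (ht : g⁻¹ * t * g ∈ P), f t = f ⟨g⁻¹ * t * g, ht⟩)
    (hun : ∀ x : G, x ∉ P → x ∉ DC P g → ∃ (t : P) (hx : x⁻¹ * t * x ∈ P), f t ≠ f ⟨x⁻¹ * t * x, hx⟩) :
    classInner (indFun P (fun t => (f t : ℂ))) (indFun P (fun t => (f t : ℂ))) = 2 := by
  classical
  have hcl : IsClassFunction P (fun t => (f t : ℂ)) := isIrr_isClassFunction (Linear.isIrrCharacter_hom f)
  have hg : twist P (fun t => (f t : ℂ)) (fun t => (f t : ℂ)) g = Nat.card (dsub P g) := by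
    have : Fintype (dsub P g) := Fintype.ofFinite _
    rw [twist_def, sum_eq_sum_subgroup (dsub P g)]
    · have h1 : ∀ d : dsub P g, (f (d : P) : ℂ) *
          conj (extendByZero P (fun t => (f t : ℂ)) (g⁻¹ * ((d : P) : G) * g)) = 1 := by
        intro d
        rw [ext_apply_mem P _ _ ((mem_dsub P g d).1 d.2), ← hst]
        exact mul_conj_hom f _
      rw [Finset.sum_congr rfl fun d _ => h1 d, Finset.sum_const, Finset.card_univ, nsmul_eq_mul, mul_one,
        Nat.card_eq_fintype_card]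
    · intro t ht
      rw [mem_dsub] at ht
      rw [ext_apply_not_mem P _ _ ht, map_zero, mul_zero]
  rw [classInner_indFun_indFun, sum_split P hgP _ (Nat.card P) (Nat.card (dsub P g))]
  · have h1 := card_DC P g
    have h2 : (Nat.card (DC P g) : ℂ) * Nat.card (dsub P g) = Nat.card P * Nat.card P := by exact_mod_cast h1
    have hP : (Nat.card P : ℂ) ≠ 0 := card_ne_zero'
    rw [h2]
    field_simp
    norm_num
  · intro x hx
    have h1 := twist_lin P P le_rfl f hx
    rw [dsub_of_mem P hx, Subgroup.card_top] at h1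
    exact h1
  · rintro x ⟨a, ha, b, hb, rfl⟩
    rw [Cfsg.Agent.H53.HC.twist_mul P hcl hcl ha hb, hg]
  · intro x hx hx'
    exact twist_eq_zero P f x (hun x hx hx')

theorem Lam_conj [Fintype P] {χ : G → ℂ} (hχ : IsIrrCharacter G χ) (x : G) :
    Lam P f χ x⁻¹ = conj (Lam P f χ x) := by
  unfold Lam
  rw [map_sum]
  refine Fintype.sum_equiv (Equiv.inv P) _ _ fun p => ?_
  have h2 := mul_conj_hom f p
  have h3 : conj (f p : ℂ) = (((f p)⁻¹ : ℂˣ) : ℂ) := by
    rw [Units.val_inv_eq_inv_val]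
    exact eq_inv_of_mul_eq_one_right h2
  rw [map_mul, Equiv.inv_apply, map_inv, inv_inv, h3, ← isCharacter_apply_inv (isIrr_isCharacter hχ)]
  congr 1
  rw [← isIrr_isClassFunction hχ ((p : G) * x⁻¹) (p : G)⁻¹]
  congr 1
  rw [Subgroup.coe_inv]
  group

theorem dvd_of_inner [Fintype P] (hgP : g ∉ P) (hst : ∀ (t : P) (ht : g⁻¹ * t * g ∈ P), f t = f ⟨g⁻¹ * t * g, ht⟩)
    (hun : ∀ x : G, x ∉ P → x ∉ DC P g → ∃ (t : P) (hx : x⁻¹ * t * x ∈ P), f t ≠ f ⟨x⁻¹ * t * x, hx⟩)
    {χ : G → ℂ} (hχ : IsIrrCharacter G χ) (h1 : classInner (fun p : P => χ p) (fun p => (f p : ℂ)) = 1) {d' : ℕ}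
    (hd : charDegree χ + d' = P.index) : charDegree χ ∣ (dsub P g).index * d' := by
  classical
  have hcl := isIrr_isClassFunction hχ
  have hd0 : charDegree χ ≠ 0 := (Cfsg.Agent.Blocks.Basic.charDegree_pos hχ).ne'
  have hχ1 : χ 1 = (charDegree χ : ℂ) := Cfsg.Agent.Blocks.Basic.irr_one_eq_charDegree hχ
  have hL1 := Lam_one P f χ h1
  have hint := isIntegral_Lam P f hχ h1 hst
  have hint' : IsIntegral ℤ (conj (Lam P f χ g / Nat.card (dsub P g))) := map_isIntegral_int (starRingEnd ℂ) hint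
  refine Cfsg.Agent.CharactersDeep.ScalarIndex.dvd_of_isIntegral_div _ _ hd0 ?_
  have hsum := sum_Lam P f hχ
  rw [sum_split P hgP _ (Nat.card P * Nat.card P) (Lam P f χ g * Lam P f χ g⁻¹), hL1] at hsum
  · have e : (((dsub P g).index * d' : ℕ) : ℂ) / (charDegree χ : ℂ) =
        Lam P f χ g / Nat.card (dsub P g) * conj (Lam P f χ g / Nat.card (dsub P g)) := by
      rw [map_div₀, Complex.conj_natCast, ← Lam_conj P f hχ]
      have hP : (Nat.card P : ℂ) ≠ 0 := card_ne_zero'
      have hK : (Nat.card (dsub P g) : ℂ) ≠ 0 := card_ne_zero'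
      have hdc : (charDegree χ : ℂ) ≠ 0 := by exact_mod_cast hd0
      have c1 : (Nat.card (DC P g) : ℂ) * Nat.card (dsub P g) = Nat.card P * Nat.card P := by
        exact_mod_cast card_DC P g
      have c2 : (Nat.card (dsub P g) : ℂ) * (dsub P g).index = Nat.card P := by
        exact_mod_cast Subgroup.card_mul_index (dsub P g)
      have c3 : (Nat.card P : ℂ) * ((charDegree χ : ℂ) + d') = Nat.card G := by
        exact_mod_cast (by rw [hd, Subgroup.card_mul_index] : Nat.card P * (charDegree χ + d') = Nat.card G)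
      rw [hχ1] at hsum
      set N := (Nat.card P : ℂ)
      set k := (Nat.card (dsub P g) : ℂ)
      set c := (charDegree χ : ℂ)
      set Q := Lam P f χ g * Lam P f χ g⁻¹
      set D := (Nat.card (DC P g) : ℂ)
      rw [Nat.cast_mul, div_mul_div_comm, div_eq_div_iff hdc (mul_ne_zero hK hK)]
      change (((dsub P g).index : ℂ)) * (d' : ℂ) * (k * k) = Q * c
      -- `N³ + D Q = N (|G| / c) N`
      have h5 : N * (N * N) + D * Q = N * ((N * (c + d')) / c) * N := by
        rw [c3]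
        exact hsum
      have h7 : c * (N * (N * N) + D * Q) = N * (N * (c + d')) * N := by
        rw [h5]
        field_simp
      have h8 : c * (D * k) * Q = N * N * N * d' * k := by
        linear_combination k * h7
      rw [c1] at h8
      have h9 : N * N * (Q * c) = N * N * (N * d' * k) := by linear_combination h8
      have h10 := mul_left_cancel₀ (mul_ne_zero hP hP) h9
      rw [h10, ← c2]
      ring
    rw [e]
    exact hint.mul hint'
  · intro x hx
    have h2 : Lam P f χ x = f ⟨x, hx⟩ * Nat.card P := by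
      have := Lam_mul_left P f χ hx 1
      rwa [mul_one, hL1] at this
    have h3 : Lam P f χ x⁻¹ = (((f ⟨x, hx⟩)⁻¹ : ℂˣ) : ℂ) * Nat.card P := by
      have := Lam_mul_left P f χ (inv_mem hx) 1
      rw [mul_one, hL1] at this
      rw [this]
      have e : (⟨x⁻¹, inv_mem hx⟩ : P) = (⟨x, hx⟩ : P)⁻¹ := rfl
      rw [e, map_inv]
    rw [h2, h3]
    calc (f ⟨x, hx⟩ : ℂ) * Nat.card P * ((((f ⟨x, hx⟩)⁻¹ : ℂˣ) : ℂ) * Nat.card P) =
          ((f ⟨x, hx⟩ : ℂ) * (((f ⟨x, hx⟩)⁻¹ : ℂˣ) : ℂ)) * (Nat.card P * Nat.card P) := by ring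
      _ = _ := by rw [Units.mul_inv, one_mul]
  · rintro x ⟨a, ha, b, hb, rfl⟩
    have e1 : (a * g * b)⁻¹ = b⁻¹ * (g⁻¹ * a⁻¹) := by group
    rw [e1, Lam_mul_left P f χ (inv_mem hb), Lam_mul_right P f hcl (inv_mem ha), mul_assoc a g b,
      Lam_mul_left P f χ ha, Lam_mul_right P f hcl hb]
    have e2 : (⟨a⁻¹, inv_mem ha⟩ : P) = (⟨a, ha⟩ : P)⁻¹ := rfl
    have e3 : (⟨b⁻¹, inv_mem hb⟩ : P) = (⟨b, hb⟩ : P)⁻¹ := rfl
    rw [e2, e3, map_inv, map_inv]
    calc (f ⟨a, ha⟩ : ℂ) * ((f ⟨b, hb⟩ : ℂ) * Lam P f χ g) *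
          ((((f ⟨b, hb⟩)⁻¹ : ℂˣ) : ℂ) * ((((f ⟨a, ha⟩)⁻¹ : ℂˣ) : ℂ) * Lam P f χ g⁻¹)) =
          ((f ⟨a, ha⟩ : ℂ) * (((f ⟨a, ha⟩)⁻¹ : ℂˣ) : ℂ)) * ((f ⟨b, hb⟩ : ℂ) * (((f ⟨b, hb⟩)⁻¹ : ℂˣ) : ℂ)) *
            (Lam P f χ g * Lam P f χ g⁻¹) := by ring
      _ = _ := by rw [Units.mul_inv, Units.mul_inv, one_mul, one_mul]
  · intro x hx hx'
    obtain ⟨t, ht, hne⟩ := hun x hx hx'
    have h2 := Lam_mul_left P f χ t.2 x
    have h3 := Lam_mul_right P f hcl ht x
    have e : x * (x⁻¹ * t * x) = t * x := by group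
    rw [e, h2] at h3
    have h4 : ((f ⟨t, t.2⟩ : ℂ) - (f ⟨x⁻¹ * t * x, ht⟩ : ℂ)) * Lam P f χ x = 0 := by
      rw [sub_mul, h3, sub_self]
    rcases mul_eq_zero.1 h4 with h5 | h5
    · exact absurd (Units.ext (sub_eq_zero.1 h5)) hne
    · rw [h5, zero_mul]

/-- **The two constituents.** -/
theorem exists_pair (hgP : g ∉ P) (hst : ∀ (t : P) (ht : g⁻¹ * t * g ∈ P), f t = f ⟨g⁻¹ * t * g, ht⟩)
    (hun : ∀ x : G, x ∉ P → x ∉ DC P g → ∃ (t : P) (hx : x⁻¹ * t * x ∈ P), f t ≠ f ⟨x⁻¹ * t * x, hx⟩) :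
    ∃ χ χ' : IrrCharacter G, charDegree (χ : G → ℂ) + charDegree (χ' : G → ℂ) = P.index ∧
      charDegree (χ : G → ℂ) ∣ (dsub P g).index * charDegree (χ' : G → ℂ) ∧
      charDegree (χ' : G → ℂ) ∣ (dsub P g).index * charDegree (χ : G → ℂ) := by
  classical
  have : Fintype P := Fintype.ofFinite P
  have hn := norm_pair P f hgP hst hun
  set Θ := indFun P (fun t => (f t : ℂ)) with hΘ
  have hΘc : IsCharacter G Θ := Cfsg.Agent.S0148.result P _ (Linear.isCharacter_hom f)
  obtain ⟨χ, hχ, hne, -⟩ := Cfsg.Agent.H53.HC.exists_common hΘc hΘc (by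
    rw [hn]
    exact two_ne_zero)
  obtain ⟨m, hm⟩ := classInner_isNat hΘc (isIrr_isCharacter hχ)
  have hDc := isCharacter_sub_irr hΘc hχ hne
  have hcc : classInner χ Θ = (m : ℂ) := by
    rw [← classInner_conj_symm, hm, Complex.conj_natCast]
  obtain ⟨k, hk⟩ := classInner_isNat hDc hDc
  have hD : classInner (Θ - χ) (Θ - χ) = 3 - 2 * (m : ℂ) := by
    rw [classInner_sub_left, classInner_sub_right, classInner_sub_right, hn, hm, hcc, classInner_irr_self hχ]
    ring
  have hm1 : m = 1 := by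
    have h0 : m ≠ 0 := by
      rintro rfl
      exact hne (by rw [hm, Nat.cast_zero])
    rw [hk] at hD
    have h4 : ((k + 2 * m : ℕ) : ℂ) = ((3 : ℕ) : ℂ) := by
      push_cast
      linear_combination hD
    have h5 : k + 2 * m = 3 := by exact_mod_cast h4
    omega
  subst hm1
  have hi2 : IsIrrCharacter G (Θ - χ) := by
    rw [isIrr_iff_classInner_self hDc, hD]
    norm_num
  have hΘD : classInner Θ (Θ - χ) = 1 := by
    rw [classInner_sub_right, hn, hm]
    norm_num
  have key : ∀ {ξ : G → ℂ}, IsIrrCharacter G ξ → classInner Θ ξ = 1 →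
      classInner (fun p : P => ξ p) (fun p => (f p : ℂ)) = 1 := by
    intro ξ hξ h1
    rw [hΘ, classInner_indFun P _ ξ (isIrr_isClassFunction hξ)] at h1
    rw [← classInner_conj_symm, h1, map_one]
  have hdeg : charDegree χ + charDegree (Θ - χ) = P.index := by
    have e1 : χ 1 = (charDegree χ : ℂ) := Cfsg.Agent.Blocks.Basic.irr_one_eq_charDegree hχ
    have e2 : (Θ - χ) 1 = (charDegree (Θ - χ) : ℂ) := Cfsg.Agent.Blocks.Basic.irr_one_eq_charDegree hi2
    have e3 : Θ 1 = (P.index : ℂ) := by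
      rw [hΘ, Cfsg.Agent.H53.HC.indFun_one, map_one, Units.val_one, mul_one]
    have h4 : ((charDegree χ + charDegree (Θ - χ) : ℕ) : ℂ) = (P.index : ℂ) := by
      rw [← e3]
      push_cast
      rw [← e1, ← e2, Pi.sub_apply]
      ring
    exact_mod_cast h4
  refine ⟨⟨χ, hχ⟩, ⟨Θ - χ, hi2⟩, hdeg, ?_, ?_⟩
  · exact dvd_of_inner P f hgP hst hun hχ (key hχ (by rw [hm, Nat.cast_one])) hdeg
  · exact dvd_of_inner P f hgP hst hun hi2 (key hi2 hΘD) (by rw [add_comm]; exact hdeg)

end pair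

end Cfsg.Agent.H115.HC.Two
end

-- part: H619/Gow/MackeyTwo
section
prune_inst 0x80000000000000c010000
set_option linter.all false
open scoped Cfsg.Agent.FastGrp

/-!
# The norm of an induced character with at most one extra double coset (S4913, helper619)

`norm_le_two` : `ψ` irreducible on `P`, all Mackey terms outside `P ∪ P y P` vanish and `ψ`, `ψ^y` are irreducible on
some group mapping to `P ∩ y P y⁻¹`: the induced character has norm at most 2.
-/

set_option autoImplicit false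

open scoped ComplexConjugate
open Cfsg

namespace Cfsg.Agent.H619.Gow

open Cfsg.Agent.OddOrderCharacters.Clifford Cfsg.Agent.Characters Cfsg.Agent.H53.HC

variable {G : Type*} [Group G]

/-- The Mackey term as an inner product. -/
theorem twist_eq_inner [Finite G] (P : Subgroup G) [Fintype P] (α β : P → ℂ) (y : G) [Fintype (dsub P y)] :
    twist P α β y = (Nat.card (dsub P y) : ℂ) *
      classInner (α ∘ (dsub P y).subtype) (β ∘ dhom P y) := by
  classical
  rw [classInner_apply, mul_inv_cancel_left₀ card_ne_zero', twist_def, sum_eq_sum_subgroup (dsub P y)]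
  · refine Finset.sum_congr rfl fun d _ => ?_
    rw [ext_apply_mem P β _ ((mem_dsub P y d).1 d.2)]
    rfl
  · intro t ht
    rw [mem_dsub] at ht
    rw [ext_apply_not_mem P β _ ht, map_zero, mul_zero]

/-- The number of ways to write an element of `P y P`. -/
theorem card_fiber [Fintype G] [DecidableEq G] (P : Subgroup G) [Fintype P] (y : G) {a₀ b₀ : G} (ha : a₀ ∈ P)
    (hb : b₀ ∈ P) :
    (Finset.univ.filter fun ab : P × P => (ab.1 : G) * y * ab.2 = a₀ * y * b₀).card = Nat.card (dsub P y) := by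
  classical
  rw [← Fintype.card_subtype, ← Nat.card_eq_fintype_card]
  refine Nat.card_congr ⟨fun ab => ⟨⟨a₀, ha⟩⁻¹ * ab.1.1, ?_⟩, fun d => ⟨(⟨a₀, ha⟩ * (d : P),
    ⟨y⁻¹ * ((d : P) : G)⁻¹ * y * b₀, ?_⟩), ?_⟩, ?_, ?_⟩
  · rw [mem_dsub]
    have h1 := ab.2
    have h2 : y⁻¹ * (((⟨a₀, ha⟩⁻¹ * ab.1.1 : P)) : G) * y = b₀ * ((ab.1.2 : P) : G)⁻¹ := by
      have h3 : ((ab.1.1 : P) : G) = a₀ * y * b₀ * ((ab.1.2 : P) : G)⁻¹ * y⁻¹ := by
        rw [eq_mul_inv_iff_mul_eq, eq_mul_inv_iff_mul_eq]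
        exact h1
      rw [Subgroup.coe_mul, Subgroup.coe_inv, h3]
      group
    rw [h2]
    exact mul_mem hb (inv_mem (SetLike.coe_mem _))
  · have h1 := (mem_dsub P y _).1 d.2
    have h2 : y⁻¹ * ((d : P) : G)⁻¹ * y = (y⁻¹ * ((d : P) : G) * y)⁻¹ := by group
    rw [h2]
    exact mul_mem (inv_mem h1) hb
  · simp only [Subgroup.coe_mul]
    group
  · rintro ⟨⟨a, b⟩, hab⟩
    apply Subtype.ext
    simp only [Prod.mk.injEq]
    refine ⟨?_, ?_⟩
    · apply Subtype.ext
      simp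
    · apply Subtype.ext
      simp only [Subgroup.coe_mul, Subgroup.coe_inv]
      simp only at hab
      have h3 : (b : G) = y⁻¹ * (a : G)⁻¹ * (a₀ * y * b₀) := by rw [← hab]; group
      rw [h3]
      group
  · intro d
    apply Subtype.ext
    apply Subtype.ext
    simp

/-- **The norm of an induced character, one extra double coset.** -/
theorem norm_eq_add [Fintype G] (P : Subgroup G) [Fintype P] {ψ : P → ℂ} (hψ : IsIrrCharacter P ψ) (y : G) (hy : y ∉ P)
    [Fintype (dsub P y)]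
    (h : ∀ x : G, x ∉ P → (∃ a ∈ P, ∃ b ∈ P, x = a * y * b) ∨ twist P ψ ψ x = 0) :
    classInner (indFun P ψ) (indFun P ψ) = 1 + classInner (ψ ∘ (dsub P y).subtype) (ψ ∘ dhom P y) := by
  classical
  have hcl := Core.isIrr_isClassFunction hψ
  set m := classInner (ψ ∘ (dsub P y).subtype) (ψ ∘ dhom P y) with hm
  set D : Set G := {x | ∃ a ∈ P, ∃ b ∈ P, x = a * y * b} with hD
  have hDP : ∀ x ∈ D, x ∉ P := by
    rintro x ⟨a, ha, b, hb, rfl⟩ hx
    apply hy
    have : y = a⁻¹ * (a * y * b) * b⁻¹ := by group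
    rw [this]
    exact mul_mem (mul_mem (inv_mem ha) hx) (inv_mem hb)
  have hsplit : ∑ x : G, twist P ψ ψ x = ∑ x ∈ Finset.univ.filter (fun x => x ∈ P), twist P ψ ψ x +
      ∑ x ∈ Finset.univ.filter (fun x => x ∈ D), twist P ψ ψ x := by
    rw [← Finset.sum_filter_add_sum_filter_not Finset.univ (fun x => x ∈ P)]
    congr 1
    symm
    refine Finset.sum_subset ?_ ?_
    · intro x hx
      rw [Finset.mem_filter] at hx ⊢
      exact ⟨hx.1, hDP x hx.2⟩
    · intro x hx hx'
      rw [Finset.mem_filter] at hx hx'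
      rcases h x hx.2 with h1 | h1
      · exact absurd ⟨Finset.mem_univ _, h1⟩ hx'
      · exact h1
  have h1 : ∑ x ∈ Finset.univ.filter (fun x => x ∈ P), twist P ψ ψ x = (Nat.card P : ℂ) * Nat.card P := by
    rw [Finset.sum_congr rfl fun x hx => twist_of_mem P ψ ψ hcl x (Finset.mem_filter.1 hx).2, Finset.sum_const,
      Core.classInner_irr_self hψ, mul_one, nsmul_eq_mul]
    congr 2
    rw [← Fintype.card_subtype, ← Nat.card_eq_fintype_card]
  have h2 : (Nat.card (dsub P y) : ℂ) * ∑ x ∈ Finset.univ.filter (fun x => x ∈ D), twist P ψ ψ x =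
      (Nat.card (dsub P y) : ℂ) * ((Nat.card P : ℂ) * Nat.card P * m) := by
    have h3 : ∑ ab : P × P, twist P ψ ψ ((ab.1 : G) * y * ab.2) = (Nat.card P : ℂ) * Nat.card P *
        ((Nat.card (dsub P y) : ℂ) * m) := by
      rw [Finset.sum_congr rfl fun ab _ => twist_mul P hcl hcl ab.1.2 ab.2.2 y, Finset.sum_const, Finset.card_univ,
        Fintype.card_prod, ← Nat.card_eq_fintype_card, nsmul_eq_mul, twist_eq_inner, Nat.cast_mul]
    have h4 : ∑ ab : P × P, twist P ψ ψ ((ab.1 : G) * y * ab.2) =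
        ∑ x ∈ Finset.univ.filter (fun x => x ∈ D), ∑ ab : P × P,
          if (ab.1 : G) * y * ab.2 = x then twist P ψ ψ x else 0 := by
      rw [Finset.sum_comm]
      refine Finset.sum_congr rfl fun ab _ => ?_
      rw [Finset.sum_ite_eq, if_pos]
      rw [Finset.mem_filter]
      exact ⟨Finset.mem_univ _, ab.1, ab.1.2, ab.2, ab.2.2, rfl⟩
    have h5 : ∀ x ∈ Finset.univ.filter (fun x => x ∈ D), (∑ ab : P × P,
          if (ab.1 : G) * y * ab.2 = x then twist P ψ ψ x else 0) =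
        (Nat.card (dsub P y) : ℂ) * twist P ψ ψ x := by
      intro x hx
      obtain ⟨a, ha, b, hb, rfl⟩ := (Finset.mem_filter.1 hx).2
      rw [← Finset.sum_filter, Finset.sum_const, card_fiber P y ha hb, nsmul_eq_mul]
    rw [Finset.mul_sum, ← Finset.sum_congr rfl h5, ← h4, h3]
    ring
  have h6 := mul_left_cancel₀ (card_ne_zero' (G := dsub P y)) h2
  rw [classInner_indFun_indFun, hsplit, h1, h6]
  have h7 : (Nat.card P : ℂ) ≠ 0 := card_ne_zero'
  field_simp

theorem inner_irr_mem {D : Type*} [Group D] [Fintype D] {α β : D → ℂ} (hα : IsIrrCharacter D α)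
    (hβ : IsIrrCharacter D β) : classInner α β = 0 ∨ classInner α β = 1 := by
  by_cases h : α = β
  · subst h
    exact Or.inr (Core.classInner_irr_self hα)
  · exact Or.inl (Core.classInner_irr_ne hα hβ h)

/-- **The norm is at most two.** -/
theorem norm_le_two [Fintype G] (P : Subgroup G) {ψ : P → ℂ} (hψ : IsIrrCharacter P ψ) (y : G) (hy : y ∉ P)
    (h : ∀ x : G, x ∉ P → (∃ a ∈ P, ∃ b ∈ P, x = a * y * b) ∨ ∀ [Fintype P], twist P ψ ψ x = 0)
    {L : Type*} [Group L] [Finite L] (f : L →* P) (f' : L →* P) (hff : ∀ l, (f' l : G) = y⁻¹ * (f l : G) * y)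
    (hf : IsIrrCharacter L (ψ ∘ f)) (hf' : IsIrrCharacter L (ψ ∘ f')) :
    ∃ n : ℕ, n ≤ 2 ∧ classInner (indFun P ψ) (indFun P ψ) = n := by
  classical
  have : Fintype P := Fintype.ofFinite P
  have : Fintype (dsub P y) := Fintype.ofFinite _
  have h1 := norm_eq_add P hψ y hy fun x hx => (h x hx).imp id fun h2 => @h2 _
  let k : L →* dsub P y :=
    { toFun := fun l => ⟨f l, (mem_dsub P y _).2 (by rw [← hff]; exact (f' l).2)⟩
      map_one' := by
        apply Subtype.ext
        exact map_one f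
      map_mul' := fun a b => by
        apply Subtype.ext
        exact map_mul f a b }
  have hc := Core.isIrr_isCharacter hψ
  have h2 : IsIrrCharacter (dsub P y) (ψ ∘ (dsub P y).subtype) := by
    refine Cfsg.Agent.CharactersDeep.MaxInduced.isIrr_of_comp k (Core.isCharacter_comp _ hc) ?_
    exact hf
  have h3 : IsIrrCharacter (dsub P y) (ψ ∘ dhom P y) := by
    refine Cfsg.Agent.CharactersDeep.MaxInduced.isIrr_of_comp k (Core.isCharacter_comp _ hc) ?_
    have : (ψ ∘ dhom P y) ∘ k = ψ ∘ f' := by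
      funext l
      simp only [Function.comp_apply]
      congr 1
      apply Subtype.ext
      exact (hff l).symm
    rw [this]
    exact hf'
  rcases inner_irr_mem h2 h3 with h4 | h4
  · exact ⟨1, by norm_num, by rw [h1, h4]; simp⟩
  · exact ⟨2, le_rfl, by rw [h1, h4]; norm_num⟩

end Cfsg.Agent.H619.Gow
end
end
end
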